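import Mathlib
import Cfsg.Agent.Lib.FischerType.Outer

/-!
The groups `Q_s` of the conjugates `s` of `z` as predicates, and coordinates of elements of `Q`.
-/

set_option autoImplicit false

namespace Cfsg.Agent.Lib.LargeFischerCover95

open Cfsg.Agent.Lib
open Cfsg.Agent.Lib.FischerType
open Cfsg.Agent.Lib.LargeExtra

variable {G : Type*} [Group G] {z : G}

/-- `v` lies in the group belonging to the conjugate `s` of `z`. -/
def InAt (Q : Subgroup (Subgroup.centralizer ({z} : Set G))) (s v : G) : Prop :=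
  ∀ τ : G, τ * z * τ⁻¹ = s → τ⁻¹ * v * τ ∈ Q.map (Subgroup.centralizer ({z} : Set G)).subtype

variable {Q : Subgroup (Subgroup.centralizer ({z} : Set G))}

theorem InAt.one (s : G) : InAt Q s 1 := fun τ _ => by simp

theorem InAt.mul {s u v : G} (hu : InAt Q s u) (hv : InAt Q s v) : InAt Q s (u * v) := fun τ hτ => by
  have h := mul_mem (hu τ hτ) (hv τ hτ)
  rwa [show τ⁻¹ * u * τ * (τ⁻¹ * v * τ) = τ⁻¹ * (u * v) * τ by group] at h

theorem InAt.inv {s u : G} (hu : InAt Q s u) : InAt Q s u⁻¹ := fun τ hτ => by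
  have h := inv_mem (hu τ hτ)
  rwa [show (τ⁻¹ * u * τ)⁻¹ = τ⁻¹ * u⁻¹ * τ by group] at h

theorem InAt.conj {s v : G} (h : InAt Q s v) (c : G) : InAt Q (c * s * c⁻¹) (c * v * c⁻¹) := by
  intro τ hτ
  have h' := h (c⁻¹ * τ) (by
    calc c⁻¹ * τ * z * (c⁻¹ * τ)⁻¹ = c⁻¹ * (τ * z * τ⁻¹) * c := by group
      _ = s := by rw [hτ]; group)
  rwa [show (c⁻¹ * τ)⁻¹ * v * (c⁻¹ * τ) = τ⁻¹ * (c * v * c⁻¹) * τ by group] at h'

/-- Conjugating by an element which fixes `s`. -/
theorem InAt.conj_fix {s v c : G} (h : InAt Q s v) (hc : c * s * c⁻¹ = s) : InAt Q s (c * v * c⁻¹) := by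
  have h' := h.conj c
  rwa [hc] at h'

/-- Two elements with squares in `⟨z⟩` commute iff their product squares as expected. -/
theorem sq_parity {u v : G} (hzz : z * z = 1) (hz : z ≠ 1) (huz : u * z = z * u) (hvz : v * z = z * v)
    (hu : u * u = 1 ∨ u * u = z) (hv : v * v = 1 ∨ v * v = z) (hc : u * v * u⁻¹ = v ∨ u * v * u⁻¹ = v * z) :
    u * v = v * u ↔ (u * v * (u * v) = 1 ↔ (u * u = 1 ↔ v * v = 1)) := by
  have key : ∀ p q : G, (p = 1 ∨ p = z) → (q = 1 ∨ q = z) → (p * q = 1 ↔ (p = 1 ↔ q = 1)) := by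
    rintro p q (rfl | rfl) (rfl | rfl) <;> simp [hzz, hz]
  rcases hc with e | e
  · have hcm : u * v = v * u := mul_inv_eq_iff_eq_mul.1 e
    have hsq : u * v * (u * v) = u * u * (v * v) := Commute.mul_mul_mul_comm hcm.symm u v
    rw [hsq]
    exact iff_of_true hcm (key _ _ hu hv)
  · have hne : u * v ≠ v * u := fun h => hz (mul_eq_left.1 (e.symm.trans (mul_inv_eq_iff_eq_mul.2 h)))
    have hsq : u * v * (u * v) = z * (u * u * (v * v)) := by
      calc u * v * (u * v) = u * v * u⁻¹ * (u * u * v) := by group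
        _ = v * z * (u * u * v) := by rw [e]
        _ = z * v * (u * u * v) := by rw [hvz]
        _ = z * (u * u * (v * v)) := by
          rcases hu with r | r <;> rw [r]
          · group
          · rw [mul_assoc z, ← mul_assoc v z v, hvz]; group
    refine iff_of_false hne fun h => ?_
    rw [hsq] at h
    rcases hu with r | r <;> rcases hv with r' | r' <;> simp [r, r', hzz, hz] at h

variable [Q.Normal]

namespace FD

variable (D : FData z Q)

include D

theorem inAt_of {s v τ : G} (hτ : τ * z * τ⁻¹ = s)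
    (h : τ⁻¹ * v * τ ∈ Q.map (Subgroup.centralizer ({z} : Set G)).subtype) : InAt Q s v := by
  intro σ hσ
  have hc : (σ⁻¹ * τ) * z = z * (σ⁻¹ * τ) := by
    calc σ⁻¹ * τ * z = σ⁻¹ * (τ * z * τ⁻¹) * τ := by group
      _ = σ⁻¹ * (σ * z * σ⁻¹) * τ := by rw [hτ, hσ]
      _ = z * (σ⁻¹ * τ) := by group
  have h' := D.good.norm _ hc _ h
  rwa [show σ⁻¹ * τ * (τ⁻¹ * v * τ) * (σ⁻¹ * τ)⁻¹ = σ⁻¹ * v * σ by group] at h'

theorem inAt_z {v : G} : InAt Q z v ↔ v ∈ Q.map (Subgroup.centralizer ({z} : Set G)).subtype :=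
  ⟨fun h => by simpa using h 1 (by simp), fun h => inAt_of D (τ := 1) (by simp) (by simpa using h)⟩

theorem inAt_map_iff {g v : G} :
    v ∈ (Q.map (Subgroup.centralizer ({z} : Set G)).subtype).map (MulAut.conj g).toMonoidHom ↔
      InAt Q (g * z * g⁻¹) v := by
  constructor
  · rintro ⟨u, hu, rfl⟩
    refine inAt_of D rfl ?_
    simpa [mul_assoc] using hu
  · intro h
    exact ⟨g⁻¹ * v * g, h g rfl, by simp [mul_assoc]⟩

theorem inAt_self (g : G) : InAt Q (g * z * g⁻¹) (g * z * g⁻¹) := inAt_of D rfl (by simpa [mul_assoc] using D.good.x_mem)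

theorem inAt_commute {g u : G} (hu : InAt Q (g * z * g⁻¹) u) : u * (g * z * g⁻¹) = g * z * g⁻¹ * u := by
  have h := D.good.le_cent _ (hu g rfl)
  calc u * (g * z * g⁻¹) = g * (g⁻¹ * u * g * z) * g⁻¹ := by group
    _ = g * (z * (g⁻¹ * u * g)) * g⁻¹ := by rw [h]
    _ = _ := by group

theorem inAt_comm {g u v : G} (hu : InAt Q (g * z * g⁻¹) u) (hv : InAt Q (g * z * g⁻¹) v) :
    u * v * u⁻¹ = v ∨ u * v * u⁻¹ = v * (g * z * g⁻¹) := by
  rcases D.good.comm _ (hu g rfl) _ (hv g rfl) with e | e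
  · left
    calc u * v * u⁻¹ = g * (g⁻¹ * u * g * (g⁻¹ * v * g) * (g⁻¹ * u * g)⁻¹) * g⁻¹ := by group
      _ = v := by rw [e]; group
  · right
    calc u * v * u⁻¹ = g * (g⁻¹ * u * g * (g⁻¹ * v * g) * (g⁻¹ * u * g)⁻¹) * g⁻¹ := by group
      _ = _ := by rw [e]; group

theorem inAt_sq {g u : G} (hu : InAt Q (g * z * g⁻¹) u) : u * u = 1 ∨ u * u = g * z * g⁻¹ := by
  rcases D.good.sq_cases (hu g rfl) with e | e
  · left
    calc u * u = g * (g⁻¹ * u * g * (g⁻¹ * u * g)) * g⁻¹ := by group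
      _ = 1 := by rw [e]; group
  · right
    calc u * u = g * (g⁻¹ * u * g * (g⁻¹ * u * g)) * g⁻¹ := by group
      _ = _ := by rw [e]

theorem inAt_move [Finite G] {g t : G} (ht : InAt Q (g * z * g⁻¹) t) (h1 : t ≠ 1) (hs : t ≠ g * z * g⁻¹) :
    ∃ r, InAt Q (g * z * g⁻¹) r ∧ r * t * r⁻¹ = t * (g * z * g⁻¹) := by
  obtain ⟨r, hr, hre⟩ := D.good.exists_move (ht g rfl) (fun e => h1 (by
    calc t = g * (g⁻¹ * t * g) * g⁻¹ := by group
      _ = 1 := by rw [e]; group)) (fun e => hs (by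
    calc t = g * (g⁻¹ * t * g) * g⁻¹ := by group
      _ = _ := by rw [e]))
  refine ⟨g * r * g⁻¹, inAt_of D rfl (by simpa [mul_assoc] using hr), ?_⟩
  calc g * r * g⁻¹ * t * (g * r * g⁻¹)⁻¹ = g * (r * (g⁻¹ * t * g) * r⁻¹) * g⁻¹ := by group
    _ = _ := by rw [hre]; group

/-! ### Coordinates -/

theorem vec_mul (a b : Q) : D.vec (a * b) = D.vec a + D.vec b := by
  rw [FData.vec, vcl_mul, map_add]
  rfl

theorem vec_z {a : Q} (h : inG z Q a = z) : D.vec a = 0 := (D.vec_eq_zero_iff a).2 (Or.inr h)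

theorem vec_eq_iff {a b : Q} : D.vec a = D.vec b ↔ inG z Q b = inG z Q a ∨ inG z Q b = inG z Q a * z := by
  rw [← D.vcl_eq_iff, FData.vec, FData.vec, EmbeddingLike.apply_eq_iff_eq]

theorem exists_vec (w : W6) : ∃ a : Q, D.vec a = w := by
  obtain ⟨a, ha⟩ := vcl_surjective (Q := Q) (D.coord.Ψ w)
  exact ⟨a, by rw [FData.vec, ha, AddEquiv.symm_apply_apply]⟩

theorem vec_conj (c : Subgroup.centralizer ({z} : Set G)) (a : Q) :
    D.vec (MulAut.conjNormal c a) = D.coord.act (QuotientGroup.mk c) (D.vec a) := by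
  rw [Setting.Coord.act, FData.Ψ_vec, smul_vcl]
  rfl

/-- Commuting is additivity of the parity of the weight. -/
theorem commute_iff_wt (a b : Q) :
    inG z Q a * inG z Q b = inG z Q b * inG z Q a ↔
      wt (D.vec a + D.vec b) % 2 = (wt (D.vec a) + wt (D.vec b)) % 2 := by
  have h := sq_parity D.good.x_sq D.good.x_ne (D.good.le_cent _ (FData.mem_map a))
    (D.good.le_cent _ (FData.mem_map b)) (D.good.sq_cases (FData.mem_map a)) (D.good.sq_cases (FData.mem_map b))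
    (D.good.comm _ (FData.mem_map a) _ (FData.mem_map b))
  have hiff := D.wt_vec_iff (a * b)
  rw [vec_mul D a b] at hiff
  have hab : inG z Q (a * b) * inG z Q (a * b) = inG z Q a * inG z Q b * (inG z Q a * inG z Q b) := rfl
  rw [hab] at hiff
  rw [h, ← hiff, ← D.wt_vec_iff a, ← D.wt_vec_iff b]
  omega

end FD

end Cfsg.Agent.Lib.LargeFischerCover95
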