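import Mathlib
import Cfsg.Agent.Lib.FischerType.Ones

/-!
No nontrivial semilinear-free map which moves the real vectors of zero sum only along the all-one vector
preserves the two orbits of singular vectors.
-/

set_option autoImplicit false

namespace Cfsg.Agent.Lib.LargeFischerCover95

open Cfsg.Agent.Lib.FischerType

/-- The product of two scalars. -/
def sm (p q : K4) : K4 := (if p.1 = 1 then q else 0) + (if p.2 = 1 then nuK q else 0)

/-- The candidate map with displacement `d` and functional `f`. -/
def lin (d : W6) (f : Fin 6 → ZMod 2) (w : W6) : W6 :=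
  fun i => w i + sm (∑ j, w j) (d i) + ∑ j, sm (w j) (f j, 0)

/-- Membership in the small orbit. -/
def smallB (k : Fin 5) (w : W6) : Bool :=
  decide (wt w % 2 = 0) && (decide (blk w = 0) || decide (blk w = k))

/-- The test vectors. -/
def tests (k : Fin 5) : List W6 :=
  [![0, (0, 1), 0, 0, (1, 0), 0], ![0, 0, (0, 1), (1, 1), 0, 0],
    if k = 3 then ![(1, 1), (1, 1), (1, 1), (1, 1), (1, 1), (1, 0)]
    else ![(1, 0), (0, 1), (1, 1), (1, 0), (1, 0), (1, 1)]]

/-- The real parts of the displacement of a code. -/
def decA (n : ℕ) : Fin 6 → ZMod 2 := fun i => ((n / 2 ^ i.val : ℕ) : ZMod 2)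

/-- The displacement of a code. -/
def decD (n : ℕ) : W6 := fun i => (decA n i, ((n / 64 : ℕ) : ZMod 2))

/-- The functional of a code. -/
def decF (n : ℕ) : Fin 6 → ZMod 2 :=
  let b : ℕ → ZMod 2 := fun j => ((n / 2 ^ (6 + j) : ℕ) : ZMod 2)
  ![0, b 1, b 2, b 3, b 4, b 1 + b 2 + b 3 + b 4]

/-- The check for one code. -/
def checkOne (k : Fin 5) (n : ℕ) : Bool :=
  !((tests k).all fun v => smallB k (lin (decD n) (decF n) v) == smallB k v) ||
    (decide (decD n = 0) && decide (decF n = 0))

theorem check_three : ((List.range 2048).all (checkOne 3)) = true := by decide +kernel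

theorem check_four : ((List.range 2048).all (checkOne 4)) = true := by decide +kernel

end Cfsg.Agent.Lib.LargeFischerCover95
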