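import Mathlib
import Cfsg.Agent.Lib.LargeFischerCover95.Search

/-!
Consequences of the finite search.
-/

set_option autoImplicit false

namespace Cfsg.Agent.Lib.LargeFischerCover95

open Cfsg.Agent.Lib.FischerType

theorem pair_parity : ∀ a b : K4, 0 = nz2 (a + (1, 0)) + nz2 (b + (1, 0)) + nz2 a + nz2 b → a.2 = b.2 := by
  decide +kernel

theorem sm_add_left : ∀ p q r : K4, sm (p + q) r = sm p r + sm q r := by decide +kernel

theorem sm_zero_left : ∀ r : K4, sm 0 r = 0 := by decide +kernel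

theorem lin_add (d : W6) (f : Fin 6 → ZMod 2) (u v : W6) : lin d f (u + v) = lin d f u + lin d f v := by
  funext i
  simp only [lin, Pi.add_apply, Finset.sum_add_distrib, sm_add_left]
  abel

theorem lin_single (d : W6) (f : Fin 6 → ZMod 2) (j : Fin 6) (s : K4) :
    lin d f (Pi.single j s) = fun i => (Pi.single j s : W6) i + sm s (d i) + sm s (f j, 0) := by
  funext i
  simp only [lin]
  rw [Finset.sum_pi_single' j s, if_pos (Finset.mem_univ _), Finset.sum_eq_single j, Pi.single_eq_same]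
  · intro b _ hb; rw [Pi.single_eq_of_ne hb, sm_zero_left]
  · simp

theorem sm_zero_right : ∀ p : K4, sm p 0 = 0 := by decide +kernel

theorem lin_zero (w : W6) : lin 0 0 w = w := by
  funext i
  simp [lin, sm_zero_right, show ((0, 0) : K4) = 0 from rfl]

theorem sm_one : ∀ f : ZMod 2, sm (1, 0) ((f, 0) : K4) = (f, 0) := by decide +kernel

theorem fin5_large : ∀ k : Fin 5, 2 ≤ k → k ≠ 2 → k = 3 ∨ k = 4 := by decide

theorem five_sum : ∀ a b c d e : ZMod 2, a + b + c + d + e = 0 → e = a + b + c + d := by decide +kernel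

theorem bit_decode : ∀ a b c d e f g h i j k : Fin 2,
    let n := a.val + 2 * b.val + 4 * c.val + 8 * d.val + 16 * e.val + 32 * f.val + 64 * g.val + 128 * h.val +
      256 * i.val + 512 * j.val + 1024 * k.val
    n < 2048 ∧ decA n = ![(a.val : ZMod 2), b.val, c.val, d.val, e.val, f.val] ∧
      ((n / 64 : ℕ) : ZMod 2) = g.val ∧
      decF n = ![0, (h.val : ZMod 2), i.val, j.val, k.val, h.val + i.val + j.val + k.val] := by
  decide +kernel

/-- A displacement and functional preserving the orbits vanish. -/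
theorem eq_zero_of_preserves {k : Fin 5} (hk2 : 2 ≤ k) (hk : k ≠ 2) {d : W6} {f : Fin 6 → ZMod 2}
    (hd : ∀ j, (d j).2 = (d 0).2) (hf0 : f 0 = 0) (hones : lin d f ones = ones)
    (h : ∀ v, smallB k (lin d f v) = smallB k v) : d = 0 ∧ f = 0 := by
  have hsum : f 1 + f 2 + f 3 + f 4 + f 5 = 0 := by
    have h0 := congrArg Prod.fst (congrFun hones 0)
    have hs : ∑ j, ones j = (0 : K4) := by decide +kernel
    simp only [lin, hs, sm_zero_left] at h0
    simp only [Fin.sum_univ_six, ones, sm_one, Prod.fst_add, Prod.fst_zero, hf0] at h0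
    simpa [add_assoc] using h0
  have hbit : ∀ x : ZMod 2, ∃ y : Fin 2, (y.val : ZMod 2) = x := by decide
  obtain ⟨a, ha⟩ := hbit (d 0).1
  obtain ⟨b, hb⟩ := hbit (d 1).1
  obtain ⟨c, hc⟩ := hbit (d 2).1
  obtain ⟨d3, hd3⟩ := hbit (d 3).1
  obtain ⟨d4, hd4⟩ := hbit (d 4).1
  obtain ⟨d5, hd5⟩ := hbit (d 5).1
  obtain ⟨g, hg⟩ := hbit (d 0).2
  obtain ⟨f1, hf1⟩ := hbit (f 1)
  obtain ⟨f2, hf2⟩ := hbit (f 2)
  obtain ⟨f3, hf3⟩ := hbit (f 3)
  obtain ⟨f4, hf4⟩ := hbit (f 4)
  obtain ⟨hn, hA, hG, hFn⟩ := bit_decode a b c d3 d4 d5 g f1 f2 f3 f4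
  generalize a.val + 2 * b.val + 4 * c.val + 8 * d3.val + 16 * d4.val + 32 * d5.val + 64 * g.val + 128 * f1.val +
      256 * f2.val + 512 * f3.val + 1024 * f4.val = n at hn hA hG hFn
  have eD : decD n = d := by
    funext i
    refine Prod.ext ?_ ?_
    · show decA n i = _
      rw [hA]
      fin_cases i <;> simp [ha, hb, hc, hd3, hd4, hd5]
    · show ((n / 64 : ℕ) : ZMod 2) = _
      rw [hG, hg, hd i]
  have eF : decF n = f := by
    rw [hFn]
    funext i
    fin_cases i <;> simp [hf0, hf1, hf2, hf3, hf4, five_sum _ _ _ _ _ hsum]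
  have hk' : k = 3 ∨ k = 4 := fin5_large k hk2 hk
  have hc : checkOne k n = true := by
    rcases hk' with rfl | rfl
    · exact List.all_eq_true.1 check_three n (List.mem_range.2 hn)
    · exact List.all_eq_true.1 check_four n (List.mem_range.2 hn)
  simp only [checkOne, eD, eF, Bool.or_eq_true, Bool.not_eq_true', Bool.and_eq_true, decide_eq_true_iff] at hc
  refine hc.resolve_left fun hfalse => ?_
  rw [List.all_eq_false] at hfalse
  obtain ⟨v, -, hv⟩ := hfalse
  exact hv (by simp [h v])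

end Cfsg.Agent.Lib.LargeFischerCover95
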