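import Mathlib
import Cfsg.Agent.Lib.LargeFischerCover95.Basic
import Cfsg.Agent.Lib.LargeFischerCover95.SearchCor

/-!
The image of `Q ∩ Q_a` for a conjugate `a` of `z` whose vector is the all-one vector: it consists of the
constants and the multiples of the pairs by a scalar different from one.
-/

set_option autoImplicit false

namespace Cfsg.Agent.Lib.LargeFischerCover95

open Cfsg.Agent.Lib
open Cfsg.Agent.Lib.FischerType

theorem pairW_ne_const : ∀ d : K4, d ≠ 0 → ∀ p : K4, pairW 0 1 d ≠ constW p := by decide +kernel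

theorem ones_eq_constW : ones = constW (1, 0) := rfl

theorem k4_basis (d : K4) (hd : d ≠ 0) (hd1 : d ≠ (1, 0)) (p : K4) :
    p = 0 ∨ p = (1, 0) ∨ p = d ∨ p = (1, 0) + d := by
  rcases k4_cases d with rfl | rfl | rfl | rfl <;> rcases k4_cases p with rfl | rfl | rfl | rfl <;>
    simp_all [Prod.ext_iff, CharTwo.add_self_eq_zero]

theorem const_eq_pairs : ∀ d : K4, constW d = pairW 0 1 d + pairW 2 3 d + pairW 4 5 d := by decide +kernel

theorem pairW_moved (σ : Equiv.Perm (Fin 6)) (i j : Fin 6) (d : K4) :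
    (fun m => pairW i j d (σ.symm m)) = pairW (σ i) (σ j) d := by
  have key : ∀ (x m : Fin 6), (Pi.single (σ x) d : W6) m = (Pi.single x d : W6) (σ.symm m) := by
    intro x m
    rcases eq_or_ne m (σ x) with rfl | hm
    · simp
    · rw [Pi.single_eq_of_ne hm, Pi.single_eq_of_ne fun e => hm (σ.symm_apply_eq.1 e)]
  funext m
  simp only [pairW, Pi.add_apply, key]

theorem ones_facts : Sing ones ∧ blk ones = 2 := by decide +kernel

theorem sm_units : (∀ q : K4, sm (1, 0) q = q) ∧ (∀ q : K4, sm (0, 1) q = nuK q) ∧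
    ∀ q : K4, sm (1, 1) q = q + nuK q := by decide +kernel

theorem sm_add_right : ∀ p q r : K4, sm p (q + r) = sm p q + sm p r := by decide +kernel

theorem single_eq_sm (j : Fin 6) (s : K4) :
    (Pi.single j s : W6) = fun i => sm s ((Pi.single j ((1, 0) : K4) : W6) i) := by
  have h : ∀ s : K4, sm s (1, 0) = s := by decide +kernel
  funext i
  rcases eq_or_ne i j with rfl | hi
  · simp [h]
  · simp [Pi.single_eq_of_ne hi, sm_zero_right]

/-- Maps commuting with the scalar of order three are linear over the scalars. -/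
theorem act_single {L W : Type*} [Group L] [AddCommGroup W] [DistribMulAction L W] {S : Setting L W}
    {Q : Form L W} {K : S.Coord Q} {e : L} (he : e * S.n = S.n * e) (j : Fin 6) (s : K4) :
    K.act e (Pi.single j s) = fun i => sm s (K.act e (Pi.single j ((1, 0) : K4)) i) := by
  have key : ∀ w : W6, K.act e (fun i => sm s (w i)) = fun i => sm s (K.act e w i) := by
    intro w
    obtain ⟨h1, h2, h3⟩ := sm_units
    rcases k4_cases s with rfl | rfl | rfl | rfl
    · simp only [sm_zero_left]; exact K.act_zero e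
    · simp only [h1]
    · simp only [h2]; exact K.act_nu_comm he w
    · simp only [h3]
      rw [show (fun i => w i + nuK (w i)) = w + fun i => nuK (w i) from rfl, K.act_add, K.act_nu_comm he]
      rfl
  rw [← key, ← single_eq_sm]

theorem exists_pair_of_moved {w : W6} (hcon : ∃ i, w i ≠ w 0) :
    ∃ (σ : Equiv.Perm (Fin 6)) (i j : Fin 6) (d : K4), Equiv.Perm.sign σ = 1 ∧ i ≠ j ∧ d ≠ 0 ∧
      (fun m => w (σ.symm m)) = w + pairW i j d := by
  obtain ⟨i, j, k, l, hij, hik, hil, hjk, hjl, hkl, huij, hukl⟩ := exists_four w hcon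
  refine ⟨Equiv.swap i j * Equiv.swap k l, i, j, w i + w j, ?_, hij, fun e => huij ?_, ?_⟩
  · rw [map_mul, Equiv.Perm.sign_swap hij, Equiv.Perm.sign_swap hkl]; rfl
  · have h := congrArg (· + w j) e
    simpa [add_assoc, k4_self] using h
  funext m
  have hsymm : (Equiv.swap i j * Equiv.swap k l).symm m = Equiv.swap k l (Equiv.swap i j m) := rfl
  simp only [pairW, Pi.add_apply, hsymm]
  by_cases h1 : m = i
  · subst h1
    rw [Equiv.swap_apply_left, Equiv.swap_apply_of_ne_of_ne hjk hjl, Pi.single_eq_same,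
      Pi.single_eq_of_ne hij, add_zero, ← add_assoc, k4_self, zero_add]
  by_cases h2 : m = j
  · subst h2
    rw [Equiv.swap_apply_right, Equiv.swap_apply_of_ne_of_ne hik hil, Pi.single_eq_same,
      Pi.single_eq_of_ne (Ne.symm hij), zero_add, add_comm (w i), ← add_assoc, k4_self, zero_add]
  rw [Equiv.swap_apply_of_ne_of_ne h1 h2, Pi.single_eq_of_ne h1, Pi.single_eq_of_ne h2, add_zero, add_zero]
  by_cases h3 : m = k
  · subst h3; rw [Equiv.swap_apply_left, hukl]
  by_cases h4 : m = l
  · subst h4; rw [Equiv.swap_apply_right, hukl]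
  rw [Equiv.swap_apply_of_ne_of_ne h3 h4]

variable {G : Type*} [Group G] [Finite G] {z : G} {Q : Subgroup (Subgroup.centralizer ({z} : Set G))} [Q.Normal]

/-- Coordinates in which the all-one vector lies in the large orbit. -/
structure Base (D : FData z Q) (k : Fin 5) : Prop where
  two_le : 2 ≤ k
  ne_two : k ≠ 2
  small : ∀ w, Sing w → ((∃ g : Subgroup.centralizer ({z} : Set G) ⧸ Q,
    g • D.coord.Ψ (repW 0) = D.coord.Ψ w) ↔ (blk w = 0 ∨ blk w = k))
  large : ∀ w, Sing w → ((∃ g : Subgroup.centralizer ({z} : Set G) ⧸ Q,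
    g • D.coord.Ψ (repW 1) = D.coord.Ψ w) ↔ ¬ (blk w = 0 ∨ blk w = k))

theorem exists_base (hF : Cfsg.IsOfLargeFischerTypeAt z Q) : ∃ (D : FData z Q) (k : Fin 5), Base D k := by
  obtain ⟨D⟩ := exists_fdata hF
  haveI : Finite (Additive (Abelianization Q)) := Finite.of_equiv _ D.coord.Ψ.toEquiv
  obtain ⟨K', k, h2, h, hs, hl⟩ := D.coord.exists_good D.card_L
  exact ⟨{ D with coord := K' }, k, h2, h, hs, hl⟩

variable {D : FData z Q} {k : Fin 5}

/-- Every element of `Q` whose vector is the all-one vector is conjugate to `z`. -/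
theorem exists_conj (B : Base D k) (hF : Cfsg.IsOfLargeFischerTypeAt z Q) {a : Q} (ha : D.vec a = ones) :
    ∃ g : G, g * z * g⁻¹ = inG z Q a := by
  obtain ⟨g, ⟨hsc, hsm⟩, hne⟩ := hF.1.2.2.2.2
  let b : Q := ⟨⟨g * z * g⁻¹, hsc⟩, hsm⟩
  obtain ⟨hs, l, hl⟩ := D.conj_large (b := b) (isConj_iff.2 ⟨g, rfl⟩) hne
  obtain ⟨g', hg'⟩ := (B.large ones ones_facts.1).2 (by
    rw [ones_facts.2]
    rintro (e | e)
    · exact absurd e (by decide)
    · exact B.ne_two e.symm)
  obtain ⟨h, hh⟩ := (D.conj_iff (a := b) (b := a) hs).2 ⟨g' * l⁻¹, by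
    have e1 : l⁻¹ • D.coord.Ψ (D.vec b) = D.coord.Ψ (repW 1) := by rw [FData.Ψ_vec, ← hl, inv_smul_smul]
    rw [mul_smul, e1, hg', ha]⟩
  refine ⟨(h : G) * g, ?_⟩
  have e : (h : G) * (g * z * g⁻¹) * (h : G)⁻¹ = inG z Q a := congrArg Subtype.val hh
  rw [← e]
  group

/-- An even permutation fixing `a` lifts. -/
theorem exists_perm_lift {a : Q} {g : G} (hg : g * z * g⁻¹ = inG z Q a) (ha : D.vec a = ones)
    (σ : Equiv.Perm (Fin 6)) (hσ : Equiv.Perm.sign σ = 1) :
    ∃ c : Subgroup.centralizer ({z} : Set G), QuotientGroup.mk c ∈ D.S.M ∧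
      (c : G) * inG z Q a * (c : G)⁻¹ = inG z Q a ∧
      ∀ w, D.coord.act (QuotientGroup.mk c) w = fun m => w (σ.symm m) := by
  haveI : Finite (Additive (Abelianization Q)) := Finite.of_equiv _ D.coord.Ψ.toEquiv
  obtain ⟨φ, hφi, hφ, hφa⟩ := D.coord.exists_alt6 (x := ones) (fun _ => one_zero_ne)
  have hM : ∀ τ, φ τ ∈ D.S.M := by
    haveI := isSimpleGroup_alt6
    intro τ
    haveI := D.S.M_normal
    rcases Subgroup.Normal.eq_bot_or_eq_top (((QuotientGroup.mk' D.S.M).comp φ).normal_ker) with h | h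
    · exfalso
      have hle := Nat.card_le_card_of_injective _ ((MonoidHom.ker_eq_bot_iff _).1 h)
      rw [card_alt6, ← Subgroup.index_eq_card, D.index_M] at hle
      omega
    · exact (QuotientGroup.eq_one_iff _).1 (MonoidHom.mem_ker.1 (h ▸ Subgroup.mem_top τ))
  have hne : inG z Q a ≠ z := fun e => by
    have h := FD.vec_z D e
    rw [ha] at h
    exact one_zero_ne (congrFun h 0)
  have S := D.pair a hg hne
  have hl : φ ⟨σ, Equiv.Perm.mem_alternatingGroup.2 hσ⟩ • vcl Q a = vcl Q a := by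
    rw [← FData.Ψ_vec, ha]; exact hφ _
  obtain ⟨c, hc, hca⟩ := D.exists_lift S hl
  refine ⟨c, hc ▸ hM _, hca, fun w => ?_⟩
  rw [hc]
  obtain ⟨t, ht, htx⟩ := hφa ⟨σ, Equiv.Perm.mem_alternatingGroup.2 hσ⟩
  refine D.coord.act_spec ?_
  rw [ht]
  congr 1
  funext m
  have h1 : t (σ.symm m) = 0 := pwK_fix_one _ (congrFun htx m)
  show pwK (t (σ.symm m)) (w (σ.symm m)) = _
  rw [h1, pwK_zero]

/-- The vectors of `Q ∩ Q_s`. -/
def Common (D : FData z Q) (s : G) (w : W6) : Prop := ∃ q : Q, D.vec q = w ∧ InAt Q s (inG z Q q)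

theorem Common.add {s : G} {u w : W6} (hu : Common D s u) (hw : Common D s w) : Common D s (u + w) := by
  obtain ⟨p, rfl, hp⟩ := hu
  obtain ⟨q, rfl, hq⟩ := hw
  exact ⟨p * q, FD.vec_mul D p q, hp.mul hq⟩

variable {a : Q} {g : G}

theorem common_sq (hg : g * z * g⁻¹ = inG z Q a) (ha : D.vec a = ones) {w : W6}
    (hw : Common D (inG z Q a) w) : wt w % 2 = 0 := by
  obtain ⟨q, rfl, hq⟩ := hw
  have hne : inG z Q a ≠ z := fun e => by
    have h := FD.vec_z D e
    rw [ha] at h
    exact one_zero_ne (congrFun h 0)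
  have S := D.pair a hg hne
  exact (D.wt_vec_iff q).2 (S.inf_sq ⟨FData.mem_map q, (FD.inAt_map_iff D).2 (hg ▸ hq)⟩)

theorem common_perm (hg : g * z * g⁻¹ = inG z Q a) (ha : D.vec a = ones) (σ : Equiv.Perm (Fin 6))
    (hσ : Equiv.Perm.sign σ = 1) {w : W6} (hw : Common D (inG z Q a) w) :
    Common D (inG z Q a) (fun m => w (σ.symm m)) := by
  obtain ⟨c, -, hca, hact⟩ := exists_perm_lift hg ha σ hσ
  obtain ⟨q, rfl, hq⟩ := hw
  exact ⟨MulAut.conjNormal c q, by rw [FD.vec_conj, hact], hq.conj_fix hca⟩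

theorem common_ones (hg : g * z * g⁻¹ = inG z Q a) (ha : D.vec a = ones) : Common D (inG z Q a) ones :=
  ⟨a, ha, hg ▸ FD.inAt_self D g⟩

/-- The real pairs are not all in `Q ∩ Q_a`. -/
theorem no_real_pairs (B : Base D k) (hF : Cfsg.IsOfLargeFischerTypeAt z Q) (hg : g * z * g⁻¹ = inG z Q a)
    (ha : D.vec a = ones) (hP : ∀ j : Fin 6, j ≠ 0 → Common D (inG z Q a) (pairW 0 j (1, 0))) : False := by
  classical
  haveI : Finite (Additive (Abelianization Q)) := Finite.of_equiv _ D.coord.Ψ.toEquiv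
  have hne : inG z Q a ≠ z := fun e => by
    have h := FD.vec_z D e
    rw [ha] at h
    exact one_zero_ne (congrFun h 0)
  have S := D.pair a hg hne
  have h32 := (S5442.result z Q hF (inG z Q a) ⟨a.1.2, a.2⟩ (isConj_iff.2 ⟨g, hg⟩) hne g hg _ _ rfl rfl).2.2.2.2.2.1
  change Nat.card (eimg Q ((Q.map (Subgroup.centralizer ({z} : Set G)).subtype).map (MulAut.conj g).toMonoidHom)) = 32 at h32
  -- a nontrivial element of `E ∩ M`
  obtain ⟨e, he, heM, he1⟩ : ∃ e ∈ eimg Q ((Q.map (Subgroup.centralizer ({z} : Set G)).subtype).map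
      (MulAut.conj g).toMonoidHom), e ∈ D.S.M ∧ e ≠ 1 := by
    by_contra hno
    push Not at hno
    haveI := D.S.M_normal
    let f := (QuotientGroup.mk' D.S.M).comp (eimg Q ((Q.map (Subgroup.centralizer ({z} : Set G)).subtype).map
      (MulAut.conj g).toMonoidHom)).subtype
    have hf : Function.Injective f := by
      rw [← MonoidHom.ker_eq_bot_iff, eq_bot_iff]
      exact fun x hx => Subtype.ext (hno x x.2 ((QuotientGroup.eq_one_iff _).1 hx))
    have hle := Nat.card_le_card_of_injective f hf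
    rw [h32, ← Subgroup.index_eq_card, D.index_M] at hle
    omega
  obtain ⟨u, ⟨huR, huz⟩, rfl⟩ := he
  rw [QuotientGroup.mk'_apply] at heM he1
  set e : Subgroup.centralizer ({z} : Set G) ⧸ Q := QuotientGroup.mk u with hedef
  set R := (Q.map (Subgroup.centralizer ({z} : Set G)).subtype).map (MulAut.conj g).toMonoidHom with hR
  have huA : InAt Q (inG z Q a) u := hg ▸ (FD.inAt_map_iff D).1 huR
  -- the pairs
  have hpair : ∀ j : Fin 6, j ≠ 0 → ∃ f : ZMod 2,
      D.coord.act e (pairW 0 j (1, 0)) = pairW 0 j (1, 0) + constW (f, 0) := by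
    intro j hj
    obtain ⟨q, hq, hqa⟩ := hP j hj
    have hv : D.vec (MulAut.conjNormal u q) = D.coord.act e (pairW 0 j (1, 0)) := by rw [FD.vec_conj, hq]
    have hcases := FD.inAt_comm D (g := g) (hg.symm ▸ huA) (hg.symm ▸ hqa)
    rw [hg] at hcases
    rcases hcases with h | h
    · refine ⟨0, ?_⟩
      rw [← hv, show MulAut.conjNormal u q = q from Subtype.ext (Subtype.ext h), hq]
      exact (add_zero _).symm
    · refine ⟨1, ?_⟩
      rw [← hv, show MulAut.conjNormal u q = q * a from Subtype.ext (Subtype.ext h), FD.vec_mul, hq, ha]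
      rfl
  choose f hf using hpair
  -- the displacement
  obtain ⟨p, hp⟩ := FD.exists_vec D ![(1, 0), 0, 0, 0, 0, 0]
  have hpa : inG z Q p * inG z Q a = inG z Q a * inG z Q p := by
    refine (FD.commute_iff_wt D p a).2 ?_
    rw [hp, ha]
    decide +kernel
  set d : W6 := D.coord.act e ![(1, 0), 0, 0, 0, 0, 0] + ![(1, 0), 0, 0, 0, 0, 0] with hd
  have hdC : Common D (inG z Q a) d := by
    refine ⟨MulAut.conjNormal u p * p⁻¹, ?_, ?_⟩
    · have hinv : D.vec p⁻¹ = D.vec p := by
        have h := FD.vec_mul D p p⁻¹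
        rw [mul_inv_cancel, (D.vec_eq_zero_iff 1).2 (Or.inl rfl)] at h
        funext i
        have h' := congrArg (fun v : W6 => v i + D.vec p i) h
        simp only [Pi.zero_apply, Pi.add_apply, zero_add] at h'
        rw [h', add_right_comm, k4_self, zero_add]
      rw [FD.vec_mul, hinv, FD.vec_conj, hp]
    · have hc : (inG z Q p) * inG z Q a * (inG z Q p)⁻¹ = inG z Q a := mul_inv_eq_iff_eq_mul.2 hpa
      have h' := huA.mul ((huA.inv).conj_fix hc)
      show InAt Q (inG z Q a) ((u : G) * inG z Q p * (u : G)⁻¹ * (inG z Q p)⁻¹)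
      rwa [show (u : G) * inG z Q p * (u : G)⁻¹ * (inG z Q p)⁻¹ =
        (u : G) * (inG z Q p * (u : G)⁻¹ * (inG z Q p)⁻¹) by group]
  have hd2 : ∀ j, (d j).2 = (d 0).2 := by
    intro j
    rcases eq_or_ne j 0 with rfl | hj
    · rfl
    have h1 := common_sq hg ha (hdC.add (hP j hj))
    have h2 := common_sq hg ha hdC
    have h3 := (wt_mod_iff _ _).1 (h1.trans h2.symm)
    have h4 := pair_diff d hj (1, 0)
    rw [h3, CharTwo.add_self_eq_zero] at h4
    exact (pair_parity (d 0) (d j) h4).symm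
  have hcent : e * D.S.n = D.S.n * e := D.S.n_central e heM
  let F : Fin 6 → ZMod 2 := fun j => if hj : j = 0 then 0 else f j hj
  have hbasis : ∀ j : Fin 6, D.coord.act e (Pi.single j ((1, 0) : K4)) = (Pi.single j ((1, 0) : K4) : W6) + d + constW (F j, 0) := by
    have h0 : (![(1, 0), 0, 0, 0, 0, 0] : W6) = Pi.single 0 ((1, 0) : K4) := (single_zero_eq _).symm
    intro j
    have hd' : D.coord.act e (Pi.single 0 ((1, 0) : K4)) = (Pi.single 0 ((1, 0) : K4) : W6) + d := by
      rw [hd, h0]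
      funext i
      simp only [Pi.add_apply]
      rw [add_left_comm, k4_self, add_zero]
    rcases eq_or_ne j 0 with rfl | hj
    · rw [hd']
      funext i
      simp [F, constW, show ((0, 0) : K4) = 0 from rfl]
    · have hs : (Pi.single j ((1, 0) : K4) : W6) = pairW 0 j (1, 0) + Pi.single 0 ((1, 0) : K4) := by
        funext i
        simp only [pairW, Pi.add_apply]
        rw [add_right_comm, k4_self, zero_add]
      conv_lhs => rw [hs, D.coord.act_add, hf j hj, hd']
      conv_rhs => rw [hs]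
      simp only [F, dif_neg hj]
      abel
  have hlin : ∀ w, D.coord.act e w = lin d F w := by
    let A : W6 →+ W6 := AddMonoidHom.mk' (D.coord.act e) (D.coord.act_add e)
    let L' : W6 →+ W6 := AddMonoidHom.mk' (lin d F) (lin_add d F)
    suffices A = L' from fun w => DFunLike.congr_fun this w
    refine AddMonoidHom.functions_ext' _ _ _ fun j => ?_
    refine AddMonoidHom.ext fun s => ?_
    show D.coord.act e (Pi.single j s) = lin d F (Pi.single j s)
    rw [lin_single, act_single hcent, hbasis j]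
    funext i
    simp only [Pi.add_apply, constW, sm_add_right]
    rw [← congrFun (single_eq_sm j s) i]
  have hones : lin d F ones = ones := by
    rw [← hlin]
    refine D.coord.act_spec ?_
    rw [← ha, FData.Ψ_vec, hedef, smul_vcl]
    refine congrArg (vcl Q) (Subtype.ext (Subtype.ext (mul_inv_eq_iff_eq_mul.2 ?_)))
    have h := FD.inAt_commute D (g := g) (hg.symm ▸ huA)
    rw [hg] at h
    exact h
  obtain ⟨hdz, hFz⟩ := eq_zero_of_preserves B.two_le B.ne_two hd2 (show F 0 = 0 by simp [F]) hones fun v => by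
    have hwt : wt (lin d F v) % 2 = wt v % 2 := by rw [← hlin, D.coord.act_wt]
    by_cases hv : wt v % 2 = 0
    · by_cases hv0 : v = 0
      · subst hv0
        rw [← hlin, D.coord.act_zero]
      have hsv : Sing v := ⟨hv0, hv⟩
      have hsv' : Sing (lin d F v) := ⟨fun h => hv0 (by
        rw [← hlin] at h
        have := congrArg (D.coord.act e⁻¹) h
        rwa [← D.coord.act_mul, inv_mul_cancel, D.coord.act_one, D.coord.act_zero] at this), hwt.trans hv⟩
      have h1 := B.small v hsv
      have h2 := B.small _ hsv'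
      simp only [smallB, hv, hwt, decide_true, Bool.true_and]
      rw [Bool.eq_iff_iff, Bool.or_eq_true, Bool.or_eq_true, decide_eq_true_iff, decide_eq_true_iff,
        decide_eq_true_iff, decide_eq_true_iff, ← h1, ← h2]
      have hΨ : D.coord.Ψ (lin d F v) = e • D.coord.Ψ v := by
        rw [← hlin, Setting.Coord.act, AddEquiv.apply_symm_apply]
      rw [hΨ]
      constructor
      · rintro ⟨l, hl⟩; exact ⟨e⁻¹ * l, by rw [mul_smul, hl, inv_smul_smul]⟩
      · rintro ⟨l, hl⟩; exact ⟨e * l, by rw [mul_smul, hl]⟩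
    · simp [smallB, hv, hwt]
  refine he1 (D.S.faithful e fun y => ?_)
  obtain ⟨w, rfl⟩ := D.coord.Ψ.surjective y
  have h := congrArg D.coord.Ψ (hlin w)
  rw [Setting.Coord.act, AddEquiv.apply_symm_apply] at h
  rw [h, hdz, hFz, lin_zero]

/-- `Q ∩ Q_a` contains the constants and the pairs scaled by some `δ ≠ 1`. -/
theorem common_lines (B : Base D k) (hF : Cfsg.IsOfLargeFischerTypeAt z Q) (hg : g * z * g⁻¹ = inG z Q a)
    (ha : D.vec a = ones) : ∃ δ : K4, δ ≠ 0 ∧ δ ≠ (1, 0) ∧
      (∀ i j : Fin 6, i ≠ j → Common D (inG z Q a) (pairW i j δ)) ∧ ∀ p, Common D (inG z Q a) (constW p) := by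
  classical
  haveI : Finite (Additive (Abelianization Q)) := Finite.of_equiv _ D.coord.Ψ.toEquiv
  obtain ⟨w, hw, hcon⟩ : ∃ w, Common D (inG z Q a) w ∧ ∃ i, w i ≠ w 0 := by
    by_contra hno
    push Not at hno
    have hne : inG z Q a ≠ z := fun e => by
      have h := FD.vec_z D e
      rw [ha] at h
      exact one_zero_ne (congrFun h 0)
    have h128 := (S5442.result z Q hF (inG z Q a) ⟨a.1.2, a.2⟩ (isConj_iff.2 ⟨g, hg⟩) hne g hg _ _ rfl rfl).2.1
    set I := Q.map (Subgroup.centralizer ({z} : Set G)).subtype ⊓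
      (Q.map (Subgroup.centralizer ({z} : Set G)).subtype).map (MulAut.conj g).toMonoidHom with hI
    have hrep : ∀ x : I, ∃ q : Q, inG z Q q = x := by
      rintro ⟨x, ⟨q, hq, rfl⟩, -⟩
      exact ⟨⟨q, hq⟩, rfl⟩
    choose q hq using hrep
    have hconst : ∀ x : I, D.vec (q x) = constW (D.vec (q x) 0) := fun x =>
      funext (hno _ ⟨q x, rfl, by rw [hq, ← hg]; exact (FD.inAt_map_iff D).1 x.2.2⟩)
    haveI : Fintype I := Fintype.ofFinite _
    have hle : Nat.card I ≤ 8 := by
      let pick : K4 → Q := fun p => (FD.exists_vec D (constW p)).choose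
      let f : I → K4 × Bool := fun x =>
        (D.vec (q x) 0, decide ((x : G) = inG z Q (pick (D.vec (q x) 0))))
      refine (Nat.card_le_card_of_injective f fun x y hxy => ?_).trans (by simp [Nat.card_eq_fintype_card])
      obtain ⟨h1, h2⟩ := Prod.ext_iff.1 hxy
      simp only [f] at h1 h2
      have hx := (FD.vec_eq_iff D).1 (((FD.exists_vec D (constW (D.vec (q x) 0))).choose_spec).trans (hconst x).symm)
      have hy := (FD.vec_eq_iff D).1 (((FD.exists_vec D (constW (D.vec (q y) 0))).choose_spec).trans (hconst y).symm)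
      rw [hq] at hx hy
      simp only [pick] at h2
      rw [h1] at hx
      rw [h1, decide_eq_decide] at h2
      refine Subtype.ext ?_
      rcases hx with hx | hx <;> rcases hy with hy | hy
      · rw [hx, hy]
      · exact (h2.1 hx).symm ▸ hx
      · exact hy ▸ (h2.2 hy)
      · rw [hx, hy]
    rw [h128] at hle
    norm_num at hle
  obtain ⟨σ, i, j, d, hσ, hij, hd, hmv⟩ := exists_pair_of_moved hcon
  have hpair : Common D (inG z Q a) (pairW i j d) := by
    have h := hw.add (common_perm hg ha σ hσ hw)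
    rw [hmv] at h
    convert h using 1
    funext m
    simp only [Pi.add_apply]
    rw [← add_assoc, k4_self, zero_add]
  have hall : ∀ i' j' : Fin 6, i' ≠ j' → Common D (inG z Q a) (pairW i' j' d) := by
    intro i' j' hij'
    obtain ⟨τ, hτ, hi, hj⟩ := exists_even_map i j i' j' hij hij'
    have h := common_perm hg ha τ hτ hpair
    rwa [pairW_moved, hi, hj] at h
  have hd1 : d ≠ (1, 0) := fun e => no_real_pairs B hF hg ha fun j hj => e ▸ hall 0 j (Ne.symm hj)
  have h1 := common_ones hg ha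
  rw [ones_eq_constW] at h1
  have hdd : Common D (inG z Q a) (constW d) := by
    rw [const_eq_pairs]
    exact ((hall 0 1 (by decide)).add (hall 2 3 (by decide))).add (hall 4 5 (by decide))
  refine ⟨d, hd, hd1, hall, fun p => ?_⟩
  rcases k4_basis d hd hd1 p with rfl | rfl | rfl | rfl
  · exact ⟨1, (D.vec_eq_zero_iff 1).2 (Or.inl rfl), InAt.one _⟩
  · exact h1
  · exact hdd
  · exact h1.add hdd

end Cfsg.Agent.Lib.LargeFischerCover95
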