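import Mathlib
import Cfsg.Agent.Lib.LargeFischerCover95.Lines

/-!
A generator of `X` above the central element of order three, and lifts of elements of `M` commuting with it.
-/

set_option autoImplicit false

namespace Cfsg.Agent.Lib.LargeFischerCover95

open Cfsg.Agent.Lib
open Cfsg.Agent.Lib.FischerType

variable {G : Type*} [Group G] [Finite G] {z : G} {Q : Subgroup (Subgroup.centralizer ({z} : Set G))} [Q.Normal]

/-- A generator of `X` with image `n`. -/
theorem exists_gen (D : FData z Q) (X : Subgroup (Subgroup.centralizer ({z} : Set G))) (hX : Nat.card X = 3)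
    (hXQ : (X ⊔ Q).Normal) :
    ∃ x : Subgroup.centralizer ({z} : Set G), orderOf x = 3 ∧ X = Subgroup.zpowers x ∧
      (QuotientGroup.mk x : Subgroup.centralizer ({z} : Set G) ⧸ Q) = D.S.n := by
  classical
  haveI : Fact (Nat.Prime 3) := ⟨Nat.prime_three⟩
  haveI := hXQ
  haveI := D.S.M_normal
  obtain ⟨x₀, hx₀⟩ := (isCyclic_of_prime_card hX).exists_zpow_surjective
  set x : Subgroup.centralizer ({z} : Set G) := (x₀ : Subgroup.centralizer ({z} : Set G)) with hxdef
  have hXz : X = Subgroup.zpowers x := by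
    ext y
    constructor
    · intro hy
      obtain ⟨i, hi⟩ := hx₀ ⟨y, hy⟩
      exact ⟨i, congrArg Subtype.val hi⟩
    · rintro ⟨i, rfl⟩
      exact zpow_mem x₀.2 i
  have hord : orderOf x = 3 := by rw [← Nat.card_zpowers, ← hXz, hX]
  have hxQ : x ∉ Q := fun h => by
    have h1 : orderOf (⟨x, h⟩ : Q) ∣ Nat.card Q := orderOf_dvd_natCard _
    rw [Subgroup.orderOf_mk, hord, D.card] at h1
    norm_num at h1
  set y : Subgroup.centralizer ({z} : Set G) ⧸ Q := QuotientGroup.mk x with hy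
  have hy3 : y ^ 3 = 1 := by
    rw [hy, ← QuotientGroup.mk_pow, ← hord, pow_orderOf_eq_one, QuotientGroup.mk_one]
  have hy1 : y ≠ 1 := fun h => hxQ ((QuotientGroup.eq_one_iff _).1 h)
  have hyM : y ∈ D.S.M := by
    have h2 := Subgroup.sq_mem_of_index_two D.index_M (y * y)
    have e : (y * y) ^ 2 = y := by
      rw [pow_two, show y * y * (y * y) = y ^ 3 * y by rw [pow_succ, pow_two]; group, hy3, one_mul]
    rwa [e] at h2
  have hnorm : ∀ l : Subgroup.centralizer ({z} : Set G) ⧸ Q, l * y * l⁻¹ ∈ Subgroup.zpowers y := by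
    intro l
    obtain ⟨c, rfl⟩ := QuotientGroup.mk_surjective l
    have h := hXQ.conj_mem x (hXz ▸ Subgroup.mem_sup_left (Subgroup.mem_zpowers x)) c
    have h' : c * x * c⁻¹ ∈ ((X ⊔ Q : Subgroup _) : Set (Subgroup.centralizer ({z} : Set G))) := h
    rw [Subgroup.mul_normal, hXz, Set.mem_mul] at h'
    obtain ⟨p, ⟨i, rfl⟩, q, hq, e⟩ := h'
    refine ⟨i, ?_⟩
    have e' := congrArg (fun v => (QuotientGroup.mk v : Subgroup.centralizer ({z} : Set G) ⧸ Q)) e
    simpa [hy, (QuotientGroup.eq_one_iff q).2 hq] using e'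
  have hθ : D.S.θ ⟨y, hyM⟩ = 1 := by
    by_contra hne
    haveI : IsSimpleGroup U43 := Classical.isSimpleGroup_PSU hNine 2 (by norm_num) (by norm_num)
    haveI hnor : (Subgroup.zpowers (D.S.θ ⟨y, hyM⟩)).Normal := ⟨fun u hu v => by
      obtain ⟨i, rfl⟩ := hu
      obtain ⟨m, rfl⟩ := D.S.θ_surj v
      obtain ⟨j, hj⟩ := hnorm m
      have e : m * ⟨y, hyM⟩ * m⁻¹ = (⟨y, hyM⟩ : D.S.M) ^ j := Subtype.ext (by simpa using hj.symm)
      rw [← conj_zpow, ← map_inv, ← map_mul, ← map_mul, e, map_zpow]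
      exact zpow_mem (zpow_mem (Subgroup.mem_zpowers _) _) _⟩
    rcases hnor.eq_bot_or_eq_top with h | h
    · exact hne (Subgroup.zpowers_eq_bot.1 h)
    · have hc : Nat.card (Subgroup.zpowers (D.S.θ ⟨y, hyM⟩)) ∣ 3 := by
        rw [Nat.card_zpowers, orderOf_dvd_iff_pow_eq_one, ← map_pow,
          show (⟨y, hyM⟩ : D.S.M) ^ 3 = 1 from Subtype.ext hy3, map_one]
      rw [h, Subgroup.card_top, card_U43] at hc
      norm_num at hc
  obtain ⟨i, hi⟩ := D.S.exists_np hθ
  change y = _ at hi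
  have hi0 : i ≠ 0 := fun e => hy1 (by rw [hi, e, Setting.np_zero])
  rcases zmod_three_ne i hi0 with rfl | rfl
  · refine ⟨x, hord, hXz, ?_⟩
    rw [← hy, hi, Setting.np, show (1 : ZMod 3).val = 1 from rfl, pow_one]
  · have hinv : x⁻¹ = x * x := inv_eq_of_mul_eq_one_right (by
      rw [← mul_assoc, ← pow_two, ← pow_succ, show 2 + 1 = orderOf x by omega, pow_orderOf_eq_one])
    refine ⟨x⁻¹, by rw [orderOf_inv, hord], by rw [Subgroup.zpowers_inv, hXz], ?_⟩
    rw [QuotientGroup.mk_inv, ← hy, hi, Setting.np, show (2 : ZMod 3).val = 2 from rfl,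
      inv_eq_iff_mul_eq_one, ← pow_succ, Setting.n_cube]

variable {D : FData z Q} {x : Subgroup.centralizer ({z} : Set G)}

theorem nuK_fix : ∀ q : K4, nuK q = q → q = 0 := by decide +kernel

/-- Conjugation by `x` multiplies vectors by the scalar of order three. -/
theorem vec_conj_gen (hxn : (QuotientGroup.mk x : Subgroup.centralizer ({z} : Set G) ⧸ Q) = D.S.n) (q : Q) :
    D.vec (MulAut.conjNormal x q) = fun i => nuK (D.vec q i) := by
  rw [FD.vec_conj, hxn]
  exact D.coord.act_spec (D.coord.nu _).symm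

/-- Only `1` and `z` in `Q` commute with `x`. -/
theorem fixed_gen (hxn : (QuotientGroup.mk x : Subgroup.centralizer ({z} : Set G) ⧸ Q) = D.S.n) (q : Q)
    (hq : x * q.1 = q.1 * x) : inG z Q q = 1 ∨ inG z Q q = z := by
  refine (D.vec_eq_zero_iff q).1 (funext fun i => nuK_fix _ ?_)
  have e : MulAut.conjNormal x q = q := Subtype.ext (mul_inv_eq_iff_eq_mul.2 hq)
  have h := congrFun (vec_conj_gen hxn q) i
  rw [e] at h
  exact h.symm

/-- Elements of `M` lift to elements commuting with `x`. -/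
theorem exists_cent_lift (hord : orderOf x = 3)
    (hxn : (QuotientGroup.mk x : Subgroup.centralizer ({z} : Set G) ⧸ Q) = D.S.n)
    {c : Subgroup.centralizer ({z} : Set G)}
    (hc : (QuotientGroup.mk c : Subgroup.centralizer ({z} : Set G) ⧸ Q) ∈ D.S.M) :
    ∃ q : Q, (q.1 * c) * x = x * (q.1 * c) := by
  classical
  haveI : Fintype Q := Fintype.ofFinite _
  set zH : Subgroup.centralizer ({z} : Set G) := ⟨z, Subgroup.mem_centralizer_singleton_iff.2 rfl⟩
  obtain ⟨zq, hzq, hze⟩ : zH ∈ Q ∧ zH * zH = 1 ∧ zH ≠ 1 :=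
    ⟨(mem_map_iff zH).1 D.good.x_mem, Subtype.ext D.good.x_sq, fun e => D.good.x_ne (congrArg Subtype.val e)⟩
  have hzc : ∀ h : Subgroup.centralizer ({z} : Set G), zH * h = h * zH := fun h =>
    Subtype.ext (Subgroup.mem_centralizer_singleton_iff.1 h.2).symm
  set A : Finset (Subgroup.centralizer ({z} : Set G)) := Finset.univ.image fun q : Q => q.1 * x * q.1⁻¹ with hA
  set Bs : Finset (Subgroup.centralizer ({z} : Set G)) :=
    (Finset.univ.image fun q : Q => x * q.1).filter fun y => y ^ 3 = 1 with hB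
  have hcube : x ^ 3 = 1 := hord ▸ pow_orderOf_eq_one x
  have hsub : A ⊆ Bs := by
    intro y hy
    obtain ⟨q, -, rfl⟩ := Finset.mem_image.1 hy
    refine Finset.mem_filter.2 ⟨Finset.mem_image.2 ⟨⟨x⁻¹ * q.1 * x * q.1⁻¹, ?_⟩, Finset.mem_univ _, ?_⟩, ?_⟩
    · refine mul_mem ?_ (inv_mem q.2)
      simpa using (inferInstance : Q.Normal).conj_mem _ q.2 x⁻¹
    · show x * (x⁻¹ * q.1 * x * q.1⁻¹) = _
      group
    · rw [conj_pow, hcube, mul_one, mul_inv_cancel]
  have hA2 : Fintype.card Q ≤ 2 * A.card := by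
    rw [← Finset.card_univ]
    refine Finset.card_le_mul_card_image _ 2 fun y hy => ?_
    obtain ⟨q₀, -, rfl⟩ := Finset.mem_image.1 hy
    refine (Finset.card_le_card (t := {q₀, q₀ * ⟨zH, zq⟩}) fun q hq => ?_).trans Finset.card_le_two
    have he : q.1 * x * q.1⁻¹ = q₀.1 * x * q₀.1⁻¹ := (Finset.mem_filter.1 hq).2
    rcases fixed_gen hxn (q₀⁻¹ * q) (by
      show x * (q₀.1⁻¹ * q.1) = q₀.1⁻¹ * q.1 * x
      calc x * (q₀.1⁻¹ * q.1) = q₀.1⁻¹ * (q₀.1 * x * q₀.1⁻¹) * q.1 := by group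
        _ = _ := by rw [← he]; group) with e | e
    · refine Finset.mem_insert.2 (Or.inl ?_)
      exact (inv_mul_eq_one.1 (Subtype.ext (Subtype.ext e))).symm
    · refine Finset.mem_insert.2 (Or.inr (Finset.mem_singleton.2 (inv_mul_eq_iff_eq_mul.1 ?_)))
      exact Subtype.ext (Subtype.ext e)
  have hB2 : 2 * Bs.card ≤ Fintype.card Q := by
    have hd : Disjoint Bs (Bs.image (· * zH)) := by
      rw [Finset.disjoint_left]
      intro y hy hy'
      obtain ⟨w, hw, rfl⟩ := Finset.mem_image.1 hy'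
      have h1 := (Finset.mem_filter.1 hy).2
      have h2 := (Finset.mem_filter.1 hw).2
      rw [Commute.mul_pow (hzc w).symm, h2, one_mul, pow_succ, pow_two, hzq, one_mul] at h1
      exact hze h1
    have hle : Bs ∪ Bs.image (· * zH) ⊆ Finset.univ.image fun q : Q => x * q.1 := by
      intro y hy
      rcases Finset.mem_union.1 hy with hy | hy
      · exact (Finset.mem_filter.1 hy).1
      · obtain ⟨w, hw, rfl⟩ := Finset.mem_image.1 hy
        obtain ⟨q, -, rfl⟩ := Finset.mem_image.1 (Finset.mem_filter.1 hw).1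
        exact Finset.mem_image.2 ⟨q * ⟨zH, zq⟩, Finset.mem_univ _, (mul_assoc _ _ _).symm⟩
    have := (Finset.card_le_card hle).trans Finset.card_image_le
    rw [Finset.card_union_of_disjoint hd, Finset.card_image_of_injective _ (mul_left_injective zH),
      Finset.card_univ] at this
    omega
  have hAB : A = Bs := Finset.eq_of_subset_of_card_le hsub (by omega)
  have hmem : c * x * c⁻¹ ∈ A := by
    rw [hAB]
    refine Finset.mem_filter.2 ⟨Finset.mem_image.2 ⟨⟨x⁻¹ * (c * x * c⁻¹), ?_⟩, Finset.mem_univ _, ?_⟩, ?_⟩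
    · rw [← QuotientGroup.eq_one_iff]
      simp only [QuotientGroup.mk_mul, QuotientGroup.mk_inv, hxn]
      rw [D.S.n_central _ hc, mul_inv_cancel_right, inv_mul_cancel]
    · show x * (x⁻¹ * (c * x * c⁻¹)) = _
      group
    · rw [conj_pow, hcube, mul_one, mul_inv_cancel]
  obtain ⟨q, -, hq⟩ := Finset.mem_image.1 hmem
  refine ⟨q⁻¹, ?_⟩
  show q.1⁻¹ * c * x = x * (q.1⁻¹ * c)
  calc q.1⁻¹ * c * x = q.1⁻¹ * (c * x * c⁻¹) * c := by group
    _ = _ := by rw [← hq]; group

end Cfsg.Agent.Lib.LargeFischerCover95
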