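import Mathlib
import Cfsg.Agent.Lib.LargeFischerCover95.Gen

/-!
A conjugate `a` of `z` in `Q` with `a · a^x · a^(x²) = 1` and the group `T = Q_a ∩ Q_(a^x)`: the product over
the powers of `x` maps commutators in `T` to commutators in the centraliser of `x`.
-/

set_option autoImplicit false

namespace Cfsg.Agent.Lib.LargeFischerCover95

open Cfsg.Agent.Lib
open Cfsg.Agent.Lib.FischerType

theorem nu_ones_facts : (fun i => nuK (ones i)) = constW (0, 1) ∧
    constW (1, 0) + constW (0, 1) + constW (1, 1) = 0 ∧ (fun i => nuK (constW (0, 1) i)) = constW (1, 1) ∧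
    wt (constW (1, 0) + constW (0, 1)) % 2 = (wt (constW (1, 0)) + wt (constW (0, 1))) % 2 ∧
    constW (0, 1) ≠ 0 ∧ constW (1, 1) ≠ 0 ∧ constW (0, 1) ≠ constW (1, 0) ∧ constW (1, 1) ≠ constW (1, 0) ∧
    constW (1, 1) ≠ constW (0, 1) ∧ constW (1, 0) + constW (0, 1) = constW (1, 1) := by decide +kernel

theorem k4_span : ∀ d p : K4, d ≠ 0 → (p = 0 ∨ p = d) ∨ (p = nuK d ∨ p = d + nuK d) := by decide +kernel

theorem pairW_add (i j : Fin 6) (p q : K4) : pairW i j (p + q) = pairW i j p + pairW i j q := by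
  simp only [pairW, Pi.single_add]
  abel

theorem three_z {G : Type*} [Group G] {z u v w : G} (hz : z * z = 1) (hv : v * z = z * v) (h : u * v * w = z) :
    u * z * (v * z) * (w * z) = 1 := by
  calc u * z * (v * z) * (w * z) = u * (z * v) * z * (w * z) := by group
    _ = u * v * (z * z) * (w * z) := by rw [← hv]; group
    _ = u * v * w * z := by rw [hz]; group
    _ = 1 := by rw [h, hz]

variable {G : Type*} [Group G] [Finite G] {z : G} {Q : Subgroup (Subgroup.centralizer ({z} : Set G))} [Q.Normal]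

/-- The product of the conjugates under the powers of `x`. -/
def avg (x v : G) : G := v * (x * v * x⁻¹) * (x * (x * v * x⁻¹) * x⁻¹)

/-- The data of the argument. -/
structure Triple (D : FData z Q) where
  k : Fin 5
  base : Base D k
  hF : Cfsg.IsOfLargeFischerTypeAt z Q
  x : Subgroup.centralizer ({z} : Set G)
  ord : orderOf x = 3
  gen : (QuotientGroup.mk x : Subgroup.centralizer ({z} : Set G) ⧸ Q) = D.S.n
  a : Q
  ha : D.vec a = ones
  g : G
  hg : g * z * g⁻¹ = inG z Q a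
  prod : avg (x : G) (inG z Q a) = 1

theorem exists_triple {D : FData z Q} {k : Fin 5} (B : Base D k) (hF : Cfsg.IsOfLargeFischerTypeAt z Q)
    {x : Subgroup.centralizer ({z} : Set G)} (hord : orderOf x = 3)
    (hxn : (QuotientGroup.mk x : Subgroup.centralizer ({z} : Set G) ⧸ Q) = D.S.n) :
    ∃ P : Triple D, P.x = x := by
  obtain ⟨a, ha⟩ := FD.exists_vec D ones
  obtain ⟨n1, n2, n3, -⟩ := nu_ones_facts
  have hsum : D.vec (a * MulAut.conjNormal x a * MulAut.conjNormal x (MulAut.conjNormal x a)) = 0 := by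
    rw [FD.vec_mul, FD.vec_mul, vec_conj_gen hxn, vec_conj_gen hxn, vec_conj_gen hxn, ha]
    simp only [congrFun n1]
    rw [n3]
    exact n2
  have hxz : (x : G) * z = z * x := Subgroup.mem_centralizer_singleton_iff.1 x.2
  rcases (D.vec_eq_zero_iff _).1 hsum with e | e
  · obtain ⟨g, hg⟩ := exists_conj B hF ha
    exact ⟨⟨k, B, hF, x, hord, hxn, a, ha, g, hg, e⟩, rfl⟩
  · let zq : Q := ⟨⟨z, Subgroup.mem_centralizer_singleton_iff.2 rfl⟩, (mem_map_iff _).1 D.good.x_mem⟩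
    have ha' : D.vec (a * zq) = ones := by rw [FD.vec_mul, ha, FD.vec_z D (a := zq) rfl, add_zero]
    obtain ⟨g, hg⟩ := exists_conj B hF ha'
    refine ⟨⟨k, B, hF, x, hord, hxn, a * zq, ha', g, hg, ?_⟩, rfl⟩
    have hcz : ∀ q : Q, inG z Q q * z = z * inG z Q q := fun q => D.good.le_cent _ (FData.mem_map q)
    have e' : avg (x : G) (inG z Q a) = z := e
    have hxz' : (x : G) * z * (x : G)⁻¹ = z := mul_inv_eq_iff_eq_mul.2 hxz
    have c1 := hcz a
    have c2 : (x : G) * inG z Q a * (x : G)⁻¹ * z = z * ((x : G) * inG z Q a * (x : G)⁻¹) :=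
      hcz (MulAut.conjNormal x a)
    have c3 : (x : G) * ((x : G) * inG z Q a * (x : G)⁻¹) * (x : G)⁻¹ * z =
        z * ((x : G) * ((x : G) * inG z Q a * (x : G)⁻¹) * (x : G)⁻¹) :=
      hcz (MulAut.conjNormal x (MulAut.conjNormal x a))
    have h1 : (x : G) * (inG z Q a * z) * (x : G)⁻¹ = (x : G) * inG z Q a * (x : G)⁻¹ * z := by
      calc (x : G) * (inG z Q a * z) * (x : G)⁻¹ = (x : G) * inG z Q a * (x : G)⁻¹ * ((x : G) * z * (x : G)⁻¹) := by
            group
        _ = _ := by rw [hxz']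
    have h2 : ∀ v, (x : G) * (v * z) * (x : G)⁻¹ = (x : G) * v * (x : G)⁻¹ * z := fun v => by
      calc (x : G) * (v * z) * (x : G)⁻¹ = (x : G) * v * (x : G)⁻¹ * ((x : G) * z * (x : G)⁻¹) := by group
        _ = _ := by rw [hxz']
    show avg (x : G) (inG z Q a * z) = 1
    rw [avg] at e' ⊢
    rw [h1, h2]
    exact three_z D.good.x_sq c2 e'

namespace Triple

variable {D : FData z Q} (P : Triple D)

/-- The first conjugate. -/
def A : G := inG z Q P.a

theorem hgA : P.g * z * P.g⁻¹ = P.A := P.hg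

/-- The second conjugate. -/
def B : G := (P.x : G) * P.A * (P.x : G)⁻¹

/-- The third conjugate. -/
def C : G := (P.x : G) * P.B * (P.x : G)⁻¹

/-- The second conjugate as an element of `Q`. -/
noncomputable def bQ : Q := MulAut.conjNormal P.x P.a

theorem inG_bQ : inG z Q P.bQ = P.B := rfl

theorem vec_bQ : D.vec P.bQ = constW (0, 1) := by
  rw [bQ, vec_conj_gen P.gen, P.ha]; exact nu_ones_facts.1

theorem vec_cQ : D.vec (MulAut.conjNormal P.x P.bQ) = constW (1, 1) := by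
  rw [vec_conj_gen P.gen, P.vec_bQ]; exact nu_ones_facts.2.2.1

theorem x_z : (P.x : G) * z * (P.x : G)⁻¹ = z :=
  mul_inv_eq_iff_eq_mul.2 (Subgroup.mem_centralizer_singleton_iff.1 P.x.2)

theorem x_cube : (P.x : G) * ((P.x : G) * (P.x : G)) = 1 := by
  have h : (P.x ^ 3 : Subgroup.centralizer ({z} : Set G)) = 1 := by rw [← P.ord, pow_orderOf_eq_one]
  rw [← mul_assoc, ← pow_two, ← pow_succ, ← SubgroupClass.coe_pow, h]
  rfl

theorem x_C : (P.x : G) * P.C * (P.x : G)⁻¹ = P.A := by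
  calc (P.x : G) * P.C * (P.x : G)⁻¹
      = ((P.x : G) * ((P.x : G) * (P.x : G))) * P.A * ((P.x : G) * ((P.x : G) * (P.x : G)))⁻¹ := by
        simp only [C, B]; group
    _ = P.A := by rw [P.x_cube]; group

theorem comm_AB : P.A * P.B = P.B * P.A := by
  refine (FD.commute_iff_wt D P.a P.bQ).2 ?_
  rw [P.ha, P.vec_bQ]
  exact nu_ones_facts.2.2.2.1

theorem sq_A : P.A * P.A = 1 := by
  refine (D.wt_vec_iff P.a).1 ?_
  rw [P.ha]
  decide +kernel

theorem sq_B : P.B * P.B = 1 := by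
  refine (D.wt_vec_iff P.bQ).1 ?_
  rw [P.vec_bQ]
  decide +kernel

theorem C_eq : P.C = P.A * P.B := by
  have h : P.A * P.B * P.C = 1 := P.prod
  rw [eq_inv_of_mul_eq_one_right h, mul_inv_rev, inv_eq_of_mul_eq_one_right P.sq_A,
    inv_eq_of_mul_eq_one_right P.sq_B, P.comm_AB]

theorem A_ne_z : P.A ≠ z := fun e => by
  have h := FD.vec_z D (a := P.a) e
  rw [P.ha] at h
  exact one_zero_ne (congrFun h 0)

theorem A_ne_B : P.A ≠ P.B := fun e => by
  have h : D.vec P.a = D.vec P.bQ := congrArg D.vec (Subtype.ext (Subtype.ext e))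
  rw [P.ha, P.vec_bQ] at h
  exact nu_ones_facts.2.2.2.2.2.2.1 h.symm

theorem A_conj : ∃ g : G, g * z * g⁻¹ = P.A := ⟨P.g, P.hg⟩

theorem B_conj : ((P.x : G) * P.g) * z * ((P.x : G) * P.g)⁻¹ = P.B := by
  rw [B, A, ← P.hg]; group

theorem at_A_z : InAt Q P.A z := by
  have S := D.pair P.a P.hg P.A_ne_z
  have h := (FD.inAt_map_iff D).1 S.hz
  rwa [P.hg] at h

theorem at_A_A : InAt Q P.A P.A := by
  have h := FD.inAt_self D P.g
  rwa [P.hg] at h

theorem at_A_B : InAt Q P.A P.B := by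
  obtain ⟨δ, -, -, -, hconst⟩ := common_lines P.base P.hF P.hg P.ha
  obtain ⟨q, hq, hqA⟩ := hconst (0, 1)
  rcases (FD.vec_eq_iff D (a := q) (b := P.bQ)).1 (by rw [hq, P.vec_bQ]) with e | e
  · rwa [← P.inG_bQ, e]
  · rw [← P.inG_bQ, e]; exact hqA.mul P.at_A_z

theorem at_A_C : InAt Q P.A P.C := P.C_eq ▸ P.at_A_A.mul P.at_A_B

theorem at_B_z : InAt Q P.B z := by
  have h := P.at_A_z.conj (P.x : G)
  rwa [P.x_z] at h

theorem at_B_B : InAt Q P.B P.B := P.at_A_A.conj (P.x : G)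

theorem at_B_A : InAt Q P.B P.A := by
  have h : InAt Q P.B (P.C * P.B) := (P.at_A_B.conj (P.x : G)).mul P.at_B_B
  rwa [P.C_eq, mul_assoc, P.sq_B, mul_one] at h

/-- Membership in `T`. -/
def T (v : G) : Prop := InAt Q P.A v ∧ InAt Q P.B v

theorem T_mul {u v : G} (hu : P.T u) (hv : P.T v) : P.T (u * v) := ⟨hu.1.mul hv.1, hu.2.mul hv.2⟩

theorem T_z : P.T z := ⟨P.at_A_z, P.at_B_z⟩

theorem T_A : P.T P.A := ⟨P.at_A_A, P.at_B_A⟩

theorem T_B : P.T P.B := ⟨P.at_A_B, P.at_B_B⟩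

theorem T_comm {u v : G} (hu : P.T u) (hv : P.T v) : u * v = v * u := by
  have h1 := FD.inAt_comm D (g := P.g) (P.hgA.symm ▸ hu.1) (P.hgA.symm ▸ hv.1)
  rw [P.hgA] at h1
  have h2 := FD.inAt_comm D (g := (P.x : G) * P.g) (P.B_conj.symm ▸ hu.2) (P.B_conj.symm ▸ hv.2)
  rw [P.B_conj] at h2
  rcases h1 with e | e
  · exact mul_inv_eq_iff_eq_mul.1 e
  rcases h2 with e' | e'
  · exact mul_inv_eq_iff_eq_mul.1 e'
  exact absurd (mul_left_cancel (e.symm.trans e')) P.A_ne_B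

theorem T_sq {u : G} (hu : P.T u) : u * u = 1 := by
  have h1 := FD.inAt_sq D (g := P.g) (P.hgA.symm ▸ hu.1)
  rw [P.hgA] at h1
  have h2 := FD.inAt_sq D (g := (P.x : G) * P.g) (P.B_conj.symm ▸ hu.2)
  rw [P.B_conj] at h2
  rcases h1 with e | e
  · exact e
  rcases h2 with e' | e'
  · exact e'
  exact absurd (e.symm.trans e') P.A_ne_B

theorem at_A_of_BC {w : G} (hB : InAt Q P.B w) (hC : InAt Q P.C w) : InAt Q P.A w := by
  have hA1 : P.A ≠ 1 := fun e => by
    have h := (D.vec_eq_zero_iff P.a).2 (Or.inl e)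
    rw [P.ha] at h
    exact one_zero_ne (congrFun h 0)
  obtain ⟨r, hr, hre⟩ := FD.inAt_move D (g := (P.x : G) * P.g) (t := P.A) (P.B_conj.symm ▸ P.at_B_A) hA1
    (P.B_conj.symm ▸ P.A_ne_B)
  rw [P.B_conj, ← P.C_eq] at hre
  have h := hC.conj r⁻¹
  rw [inv_inv, show r⁻¹ * P.C * r = P.A by rw [← hre]; group] at h
  have hc := FD.inAt_comm D (g := (P.x : G) * P.g) hr.inv (P.B_conj.symm ▸ hB)
  rw [inv_inv, P.B_conj] at hc
  rcases hc with e | e <;> rw [e] at h
  · exact h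
  · have h' := h.mul P.at_A_B
    rwa [mul_assoc, P.sq_B, mul_one] at h'

theorem T_conj {v : G} (hv : P.T v) : P.T ((P.x : G) * v * (P.x : G)⁻¹) :=
  ⟨P.at_A_of_BC (hv.1.conj _) (hv.2.conj _), hv.1.conj _⟩

theorem T_avg {v : G} (hv : P.T v) : P.T (avg (P.x : G) v) :=
  P.T_mul (P.T_mul hv (P.T_conj hv)) (P.T_conj (P.T_conj hv))

theorem avg_mul {u v : G} (hu : P.T u) (hv : P.T v) :
    avg (P.x : G) (u * v) = avg (P.x : G) u * avg (P.x : G) v := by
  have hu1 := P.T_conj hu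
  have hu2 := P.T_conj hu1
  have hv1 := P.T_conj hv
  have hv2 := P.T_conj hv1
  set X : G := (P.x : G) with hX
  calc avg X (u * v)
      = u * v * ((X * u * X⁻¹) * (X * v * X⁻¹)) *
          ((X * (X * u * X⁻¹) * X⁻¹) * (X * (X * v * X⁻¹) * X⁻¹)) := by simp only [avg]; group
    _ = u * (v * (X * u * X⁻¹)) * (X * v * X⁻¹) * (X * (X * u * X⁻¹) * X⁻¹) * (X * (X * v * X⁻¹) * X⁻¹) := by
        group
    _ = u * (X * u * X⁻¹) * (v * (X * v * X⁻¹) * (X * (X * u * X⁻¹) * X⁻¹)) * (X * (X * v * X⁻¹) * X⁻¹) := by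
        rw [P.T_comm hv hu1]; group
    _ = _ := by
        rw [P.T_comm (P.T_mul hv hv1) hu2]; simp only [avg, mul_assoc]

theorem avg_comm {v : G} (hv : P.T v) :
    avg (P.x : G) v * (P.x : G) = (P.x : G) * avg (P.x : G) v := by
  refine (mul_inv_eq_iff_eq_mul.1 ?_).symm
  have hv1 := P.T_conj hv
  have hv2 := P.T_conj hv1
  set X : G := (P.x : G) with hX
  calc X * avg X v * X⁻¹
      = (X * v * X⁻¹) * (X * (X * v * X⁻¹) * X⁻¹) * ((X * (X * X)) * v * (X * (X * X))⁻¹) := by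
        simp only [avg]; group
    _ = avg X v := by
        rw [hX, P.x_cube, one_mul, inv_one, mul_one, P.T_comm (P.T_mul hv1 hv2) hv]
        simp only [avg, mul_assoc]
        try rfl

theorem avg_z : avg (P.x : G) z = z := by
  rw [avg, P.x_z, P.x_z, D.good.x_sq, one_mul]

theorem avg_A : avg (P.x : G) P.A = 1 := P.prod

theorem avg_B : avg (P.x : G) P.B = 1 := by
  have h : P.A * (P.B * P.C) = 1 := by rw [← mul_assoc]; exact P.prod
  show P.B * P.C * ((P.x : G) * P.C * (P.x : G)⁻¹) = 1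
  rw [P.x_C]
  exact mul_eq_one_comm.1 h

/-- Conjugating by elements of `Q` fixing the two conjugates does not change the product. -/
theorem avg_conj_Q (q : Q) (hqA : inG z Q q * P.A * (inG z Q q)⁻¹ = P.A)
    (hqB : inG z Q q * P.B * (inG z Q q)⁻¹ = P.B) {t : G} (ht : P.T t) :
    avg (P.x : G) (inG z Q q * t * (inG z Q q)⁻¹) = avg (P.x : G) t := by
  obtain ⟨δ, hδ, -, hpair, -⟩ := common_lines P.base P.hF P.hg P.ha
  have hsum : ∑ i, D.vec q i = 0 := by
    refine (ones_ortho _).1 ⟨?_, ?_⟩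
    · have h := (FD.commute_iff_wt D q P.a).1 (mul_inv_eq_iff_eq_mul.1 hqA)
      rw [P.ha] at h
      rw [h, Nat.add_mod, show wt ones % 2 = 0 by decide +kernel, add_zero, Nat.mod_mod]
    · have h := (FD.commute_iff_wt D q P.bQ).1 (mul_inv_eq_iff_eq_mul.1 hqB)
      rw [P.vec_bQ, ← nu_ones_facts.1] at h
      rw [h, Nat.add_mod, show wt (fun i => nuK (ones i)) % 2 = 0 by decide +kernel, add_zero, Nat.mod_mod]
  let H : Set W6 := {w | ∃ v u, Common D P.A v ∧ Common D P.B u ∧ w = v + u}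
  have hadd : ∀ v ∈ H, ∀ w ∈ H, v + w ∈ H := by
    rintro _ ⟨v, u, hv, hu, rfl⟩ _ ⟨v', u', hv', hu', rfl⟩
    exact ⟨v + v', u + u', hv.add hv', hu.add hu', by abel⟩
  have h0 : ∀ s, Common D s 0 := fun s => ⟨1, (D.vec_eq_zero_iff 1).2 (Or.inl rfl), InAt.one _⟩
  have hall : ∀ i j : Fin 6, i ≠ j → ∀ p, pairW i j p ∈ H := by
    intro i j hij p
    have hv := hpair i j hij
    have hu : Common D P.B (pairW i j (nuK δ)) := by
      obtain ⟨q', hq', hq'A⟩ := hv
      exact ⟨MulAut.conjNormal P.x q', by rw [vec_conj_gen P.gen, hq', pairW_nu], hq'A.conj _⟩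
    have hz0 : pairW i j (0 : K4) = 0 := by simp [pairW]
    rcases k4_span δ p hδ with (rfl | rfl) | (rfl | rfl)
    · rw [hz0]; exact ⟨0, 0, h0 _, h0 _, (add_zero _).symm⟩
    · exact ⟨_, 0, hv, h0 _, (add_zero _).symm⟩
    · exact ⟨0, _, h0 _, hu, (zero_add _).symm⟩
    · exact ⟨_, _, hv, hu, pairW_add _ _ _ _⟩
  obtain ⟨v, u, ⟨qv, hqv, hvA⟩, ⟨qu, hqu, huB⟩, he⟩ : D.vec q ∈ H := by
    have e : ∀ w : W6, ∑ i, w i = 0 → w = pairW 0 1 (w 1) + pairW 0 2 (w 2) + pairW 0 3 (w 3) +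
        pairW 0 4 (w 4) + pairW 0 5 (w 5) := fun w hw => by
      rw [Fin.sum_univ_six] at hw
      have h0' : ∀ a b c d e f : K4, a + b + c + d + e + f = 0 → a = b + c + d + e + f := by decide +kernel
      funext m
      fin_cases m <;> simp [pairW, h0' _ _ _ _ _ _ hw]
    rw [e _ hsum]
    exact hadd _ (hadd _ (hadd _ (hadd _ (hall _ _ (by decide) _) _ (hall _ _ (by decide) _)) _
      (hall _ _ (by decide) _)) _ (hall _ _ (by decide) _)) _ (hall _ _ (by decide) _)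
  have hstepA : ∀ {r t : G}, InAt Q P.A r → P.T t →
      P.T (r * t * r⁻¹) ∧ avg (P.x : G) (r * t * r⁻¹) = avg (P.x : G) t := by
    intro r t hr ht
    have h := FD.inAt_comm D (g := P.g) (P.hgA.symm ▸ hr) (P.hgA.symm ▸ ht.1)
    rw [P.hgA] at h
    rcases h with e | e <;> rw [e]
    · exact ⟨ht, rfl⟩
    · exact ⟨P.T_mul ht P.T_A, by rw [P.avg_mul ht P.T_A, P.avg_A, mul_one]⟩
  have hstepB : ∀ {r t : G}, InAt Q P.B r → P.T t →
      P.T (r * t * r⁻¹) ∧ avg (P.x : G) (r * t * r⁻¹) = avg (P.x : G) t := by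
    intro r t hr ht
    have h := FD.inAt_comm D (g := (P.x : G) * P.g) (P.B_conj.symm ▸ hr) (P.B_conj.symm ▸ ht.2)
    rw [P.B_conj] at h
    rcases h with e | e <;> rw [e]
    · exact ⟨ht, rfl⟩
    · exact ⟨P.T_mul ht P.T_B, by rw [P.avg_mul ht P.T_B, P.avg_B, mul_one]⟩
  have hzt : z * t * z⁻¹ = t := mul_inv_eq_iff_eq_mul.2 (P.T_comm P.T_z ht)
  obtain ⟨hu1, hu2⟩ := hstepB huB ht
  obtain ⟨-, hv2⟩ := hstepA hvA hu1
  rcases (FD.vec_eq_iff D (a := qv * qu) (b := q)).1 (by rw [FD.vec_mul, hqv, hqu, he]) with e | e <;> rw [e]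
  · show avg _ (inG z Q qv * inG z Q qu * t * (inG z Q qv * inG z Q qu)⁻¹) = _
    rw [show inG z Q qv * inG z Q qu * t * (inG z Q qv * inG z Q qu)⁻¹ =
      inG z Q qv * (inG z Q qu * t * (inG z Q qu)⁻¹) * (inG z Q qv)⁻¹ by group, hv2, hu2]
  · show avg _ (inG z Q qv * inG z Q qu * z * t * (inG z Q qv * inG z Q qu * z)⁻¹) = _
    rw [show inG z Q qv * inG z Q qu * z * t * (inG z Q qv * inG z Q qu * z)⁻¹ =
      inG z Q qv * (inG z Q qu * (z * t * z⁻¹) * (inG z Q qu)⁻¹) * (inG z Q qv)⁻¹ by group, hzt, hv2, hu2]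

/-- The product of a commutator is a commutator in the centraliser of `x`. -/
theorem avg_commutator (c : Subgroup.centralizer ({z} : Set G)) (hcA : (c : G) * P.A * (c : G)⁻¹ = P.A)
    (hcB : (c : G) * P.B * (c : G)⁻¹ = P.B) {t : G} (ht : P.T t) :
    ∃ v ∈ ⁅Subgroup.centralizer ({P.x} : Set (Subgroup.centralizer ({z} : Set G))),
        Subgroup.centralizer ({P.x} : Set (Subgroup.centralizer ({z} : Set G)))⁆,
      ((v : Subgroup.centralizer ({z} : Set G)) : G) = avg (P.x : G) ((c : G) * t * (c : G)⁻¹ * t) := by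
  haveI : Finite (Additive (Abelianization Q)) := Finite.of_equiv _ D.coord.Ψ.toEquiv
  set cb : Subgroup.centralizer ({z} : Set G) ⧸ Q := QuotientGroup.mk c with hcb
  have hfix : ∀ q : Q, (c : G) * inG z Q q * (c : G)⁻¹ = inG z Q q → D.coord.act cb (D.vec q) = D.vec q :=
    fun q h => by
      rw [hcb, ← FD.vec_conj]
      exact congrArg D.vec (Subtype.ext (Subtype.ext h))
  have hcM : cb ∈ D.S.M := by
    refine (D.commute_iff P.hF cb).1 ?_
    rcases D.S.n_conj cb with h | h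
    · exact mul_inv_eq_iff_eq_mul.1 h
    · exfalso
      have h1 := hfix P.a hcA
      have h2 := hfix P.bQ hcB
      rw [P.vec_bQ] at h2
      rw [P.ha] at h1
      have h3 : cb * D.S.n = D.S.n * D.S.n * cb := mul_inv_eq_iff_eq_mul.1 h
      have e : D.coord.act (cb * D.S.n) ones = constW (0, 1) := by
        rw [D.coord.act_mul, show D.coord.act D.S.n ones = constW (0, 1) from
          (D.coord.act_spec (D.coord.nu _).symm).trans nu_ones_facts.1, h2]
      rw [h3, D.coord.act_mul, h1, D.coord.act_mul,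
        show D.coord.act D.S.n ones = constW (0, 1) from (D.coord.act_spec (D.coord.nu _).symm).trans nu_ones_facts.1,
        show D.coord.act D.S.n (constW (0, 1)) = constW (1, 1) from
          (D.coord.act_spec (D.coord.nu _).symm).trans nu_ones_facts.2.2.1] at e
      exact nu_ones_facts.2.2.2.2.2.2.2.2.1 e
  obtain ⟨q, hq⟩ := exists_cent_lift P.ord P.gen hcM
  set k : Subgroup.centralizer ({z} : Set G) := q.1 * c with hk
  have hkx : (k : G) * (P.x : G) = (P.x : G) * (k : G) := congrArg Subtype.val hq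
  have hkc : (k : G) = inG z Q q * (c : G) := rfl
  have hkconj : ∀ v : G, (k : G) * ((P.x : G) * v * (P.x : G)⁻¹) * (k : G)⁻¹ =
      (P.x : G) * ((k : G) * v * (k : G)⁻¹) * (P.x : G)⁻¹ := fun v => by
    calc (k : G) * ((P.x : G) * v * (P.x : G)⁻¹) * (k : G)⁻¹
        = ((k : G) * (P.x : G)) * v * ((k : G) * (P.x : G))⁻¹ := by group
      _ = _ := by rw [hkx]; group
  have hcomm : ∀ w : G, w * z = z * w → (P.x : G) * (w * z) * (P.x : G)⁻¹ = (P.x : G) * w * (P.x : G)⁻¹ * z :=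
    fun w _ => by
      calc (P.x : G) * (w * z) * (P.x : G)⁻¹
          = (P.x : G) * w * (P.x : G)⁻¹ * ((P.x : G) * z * (P.x : G)⁻¹) := by group
        _ = _ := by rw [P.x_z]
  have hAz : P.A * z = z * P.A := D.good.le_cent _ (FData.mem_map P.a)
  have hBz : P.B * z = z * P.B := D.good.le_cent _ (FData.mem_map P.bQ)
  have hkA : (k : G) * P.A * (k : G)⁻¹ = P.A := by
    have h := D.good.comm _ (FData.mem_map q) _ (FData.mem_map P.a)
    have e : (k : G) * P.A * (k : G)⁻¹ = inG z Q q * P.A * (inG z Q q)⁻¹ := by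
      rw [hkc, show inG z Q q * (c : G) * P.A * (inG z Q q * (c : G))⁻¹ =
        inG z Q q * ((c : G) * P.A * (c : G)⁻¹) * (inG z Q q)⁻¹ by group, hcA]
    rcases h with h | h
    · exact e.trans h
    · exfalso
      have eA : (k : G) * P.A * (k : G)⁻¹ = P.A * z := e.trans h
      have eB : (k : G) * P.B * (k : G)⁻¹ = P.B * z := by
        show (k : G) * ((P.x : G) * P.A * (P.x : G)⁻¹) * (k : G)⁻¹ = _
        rw [hkconj, eA, hcomm _ hAz]; rfl
      have eC : (k : G) * P.C * (k : G)⁻¹ = P.C * z := by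
        show (k : G) * ((P.x : G) * P.B * (P.x : G)⁻¹) * (k : G)⁻¹ = _
        rw [hkconj, eB, hcomm _ hBz]; rfl
      rw [P.C_eq, show (k : G) * (P.A * P.B) * (k : G)⁻¹ =
        ((k : G) * P.A * (k : G)⁻¹) * ((k : G) * P.B * (k : G)⁻¹) by group, eA, eB, mul_assoc P.A z,
        ← mul_assoc z, ← hBz, mul_assoc P.B, D.good.x_sq, mul_one] at eC
      exact D.good.x_ne (mul_eq_left.1 eC.symm)
  have hkB : (k : G) * P.B * (k : G)⁻¹ = P.B := by
    show (k : G) * ((P.x : G) * P.A * (P.x : G)⁻¹) * (k : G)⁻¹ = _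
    rw [hkconj, hkA]; rfl
  have hqA : inG z Q q * P.A * (inG z Q q)⁻¹ = P.A := by
    conv_lhs => rw [← hcA]
    refine Eq.trans ?_ hkA
    rw [hkc]; group
  have hqB : inG z Q q * P.B * (inG z Q q)⁻¹ = P.B := by
    conv_lhs => rw [← hcB]
    refine Eq.trans ?_ hkB
    rw [hkc]; group
  have htc : P.T ((c : G) * t * (c : G)⁻¹) := ⟨ht.1.conj_fix hcA, ht.2.conj_fix hcB⟩
  have havg : avg (P.x : G) ((c : G) * t * (c : G)⁻¹) = (k : G) * avg (P.x : G) t * (k : G)⁻¹ := by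
    rw [← P.avg_conj_Q q hqA hqB htc, show inG z Q q * ((c : G) * t * (c : G)⁻¹) * (inG z Q q)⁻¹ =
      (k : G) * t * (k : G)⁻¹ by rw [hkc]; group]
    simp only [avg]
    rw [← hkconj, ← hkconj]
    group
  have hat := P.T_avg ht
  let π : Subgroup.centralizer ({z} : Set G) :=
    ⟨avg (P.x : G) t, Subgroup.mem_centralizer_singleton_iff.2 (P.T_comm hat P.T_z)⟩
  refine ⟨k * π * k⁻¹ * π⁻¹, ?_, ?_⟩
  · rw [← commutatorElement_def]
    refine Subgroup.commutator_mem_commutator (Subgroup.mem_centralizer_singleton_iff.2 hq) ?_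
    exact Subgroup.mem_centralizer_singleton_iff.2 (Subtype.ext (P.avg_comm ht))
  · show (k : G) * avg (P.x : G) t * (k : G)⁻¹ * (avg (P.x : G) t)⁻¹ = _
    rw [P.avg_mul htc ht, havg, inv_eq_of_mul_eq_one_right (P.T_sq hat)]

end Triple

end Cfsg.Agent.Lib.LargeFischerCover95
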