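import Mathlib
import Cfsg.Agent.Lib.LargeFischerCover95.Triple

/-!
`z` is a commutator in the centraliser of `x`.
-/

set_option autoImplicit false

namespace Cfsg.Agent.Lib.LargeFischerCover95

open Cfsg.Agent.Lib
open Cfsg.Agent.Lib.FischerType

theorem sm_facts : ∀ p d : ZMod 2 × ZMod 2, (p = (0, 1) ∨ p = (1, 1)) → d ≠ 0 → d ≠ (1, 0) →
    sm p d ≠ 0 ∧ sm p d ≠ p := by
  intro p d hp hd hd1
  rcases hp with rfl | rfl <;> rcases k4_cases d with rfl | rfl | rfl | rfl <;>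
    first | exact absurd rfl hd | exact absurd rfl hd1 | decide

theorem sm_pairW (i j : Fin 6) (p d : K4) : (fun m => sm p (pairW i j d m)) = pairW i j (sm p d) := by
  funext m
  simp only [pairW, Pi.add_apply, sm_add_right, Pi.single_apply]
  by_cases h1 : m = i <;> by_cases h2 : m = j <;> by_cases h3 : i = j <;> simp_all [sm_zero_right, Ne.symm]

theorem nu_sq : ∀ p : K4, nuK (nuK p) = p + nuK p := by decide +kernel

theorem head_mover : ∀ p : K4, (p = (0, 1) ∨ p = (1, 1)) →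
    wt (![(1, 0), 0, 0, 0, 0, 0] + constW p) % 2 ≠ (wt ![(1, 0), 0, 0, 0, 0, 0] + wt (constW p)) % 2 := by
  rintro p (rfl | rfl) <;> decide +kernel

theorem head_ones : wt (![(1, 0), 0, 0, 0, 0, 0] + ones) % 2 = (wt ![(1, 0), 0, 0, 0, 0, 0] + wt ones) % 2 := by
  decide +kernel

theorem four_sets : ∀ d : K4,
    pairW 0 1 d + pairW 2 3 d + (pairW 0 4 d + pairW 0 5 d) = constW d := by decide +kernel

theorem not_const_pair : ∀ i j : Fin 6, i ≠ j → ∀ d : K4, d ≠ 0 → pairW i j d ≠ 0 ∧ pairW i j d ≠ ones := by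
  decide +kernel

variable {G : Type*} [Group G] [Finite G] {z : G} {Q : Subgroup (Subgroup.centralizer ({z} : Set G))} [Q.Normal]
  {D : FData z Q}

namespace Triple

variable (P : Triple D)

/-- An element interchanging `z` and the first conjugate. -/
theorem exists_swap : ∃ g : G, g * z * g⁻¹ = P.A ∧ g * P.A * g⁻¹ = z := by
  haveI : Finite (Additive (Abelianization Q)) := Finite.of_equiv _ D.coord.Ψ.toEquiv
  obtain ⟨q, hq, hqe⟩ := P.at_A_z P.g P.hgA
  change (q : G) = P.g⁻¹ * z * P.g at hqe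
  let a' : Q := ⟨q, hq⟩
  have hne : inG z Q a' ≠ z := fun e => P.A_ne_z (by
    have h : P.g⁻¹ * z * P.g = z := hqe.symm.trans e
    calc P.A = P.g * z * P.g⁻¹ := P.hgA.symm
      _ = P.g * (P.g⁻¹ * z * P.g) * P.g⁻¹ := by rw [h]
      _ = z := by group)
  obtain ⟨-, l, hl⟩ := D.conj_large (b := a') (isConj_iff.2 ⟨P.g⁻¹, by
    rw [inv_inv]; exact hqe.symm⟩) hne
  obtain ⟨hsA, l', hl'⟩ := D.conj_large (b := P.a) (isConj_iff.2 ⟨P.g, P.hg⟩) P.A_ne_z
  obtain ⟨h, hh⟩ := (D.conj_iff (a := P.a) (b := a') hsA).2 ⟨l * l'⁻¹, by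
    rw [FData.Ψ_vec, FData.Ψ_vec, ← hl, ← hl', mul_smul, inv_smul_smul]⟩
  have hh' : (h : G) * P.A * (h : G)⁻¹ = P.g⁻¹ * z * P.g :=
    (congrArg Subtype.val hh).trans hqe
  refine ⟨P.g * h, ?_, ?_⟩
  · calc P.g * (h : G) * z * (P.g * (h : G))⁻¹ = P.g * ((h : G) * z * (h : G)⁻¹) * P.g⁻¹ := by group
      _ = P.A := by
        rw [mul_inv_eq_iff_eq_mul.2 (Subgroup.mem_centralizer_singleton_iff.1 h.2 : (h : G) * z = z * h), P.hgA]
  · calc P.g * (h : G) * P.A * (P.g * (h : G))⁻¹ = P.g * ((h : G) * P.A * (h : G)⁻¹) * P.g⁻¹ := by group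
      _ = z := by rw [hh']; group

/-- The interchange maps the second conjugate to a translate of the second or third. -/
theorem vec_image {g : G} (hg1 : g * z * g⁻¹ = P.A) (hg2 : g * P.A * g⁻¹ = z) :
    ∃ (b : Q) (p : K4), inG z Q b = g * P.B * g⁻¹ ∧ D.vec b = constW p ∧ (p = (0, 1) ∨ p = (1, 1)) := by
  haveI : Finite (Additive (Abelianization Q)) := Finite.of_equiv _ D.coord.Ψ.toEquiv
  have hat : InAt Q z (g * P.B * g⁻¹) := by
    have h := P.at_A_B.conj g
    rwa [hg2] at h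
  obtain ⟨b₀, hb₀, hbe⟩ := (FD.inAt_z D).1 hat
  let b : Q := ⟨b₀, hb₀⟩
  have hb : inG z Q b = g * P.B * g⁻¹ := hbe
  have hgB : ∀ v : G, g * P.B * g⁻¹ = g * v * g⁻¹ → P.B = v := fun v h => mul_left_cancel (mul_right_cancel h)
  have hgA' : g * z * g⁻¹ = P.A := hg1
  have hBne : P.B ≠ 1 ∧ P.B ≠ z ∧ P.B ≠ P.A ∧ P.B ≠ P.A * z := by
    have n := nu_ones_facts
    refine ⟨fun e => ?_, fun e => ?_, fun e => P.A_ne_B e.symm, fun e => ?_⟩
    · exact n.2.2.2.2.1 (P.vec_bQ ▸ (D.vec_eq_zero_iff P.bQ).2 (Or.inl e))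
    · exact n.2.2.2.2.1 (P.vec_bQ ▸ (D.vec_eq_zero_iff P.bQ).2 (Or.inr e))
    · have h := (FD.vec_eq_iff D (a := P.a) (b := P.bQ)).2 (Or.inr e)
      rw [P.ha, P.vec_bQ] at h
      exact n.2.2.2.2.2.2.1 h.symm
  by_cases hconst : ∀ i, D.vec b i = D.vec b 0
  · refine ⟨b, D.vec b 0, hb, funext hconst, ?_⟩
    rcases k4_cases (D.vec b 0) with e | e | e | e
    · exfalso
      have h : D.vec b = 0 := funext fun i => (hconst i).trans e
      rcases (D.vec_eq_zero_iff b).1 h with h' | h'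
      · exact hBne.1 (hgB 1 (by rw [← hb, h']; group))
      · exact hBne.2.2.1 (hgB P.A (by rw [← hb, h', hg2]))
    · exfalso
      have h : D.vec P.a = D.vec b := by rw [P.ha]; exact (funext fun i => (hconst i).trans e).symm
      rcases (FD.vec_eq_iff D).1 h with h' | h'
      · exact hBne.2.1 (hgB z (by rw [← hb, h', hg1]; rfl))
      · refine hBne.2.2.2 (hgB (P.A * z) ?_)
        rw [← hb, h', show g * (P.A * z) * g⁻¹ = (g * P.A * g⁻¹) * (g * z * g⁻¹) by group, hg1, hg2]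
        exact D.good.le_cent _ (FData.mem_map P.a)
    · exact Or.inl e
    · exact Or.inr e
  · exfalso
    push Not at hconst
    obtain ⟨σ, i, j, d, hσ, hij, hd, hmv⟩ := exists_pair_of_moved hconst
    obtain ⟨c, -, hcA, hact⟩ := exists_perm_lift P.hg P.ha σ hσ
    change (c : G) * P.A * (c : G)⁻¹ = P.A at hcA
    have hcz : (c : G) * z * (c : G)⁻¹ = z := mul_inv_eq_iff_eq_mul.2 (Subgroup.mem_centralizer_singleton_iff.1 c.2)
    have hgi1 : g⁻¹ * P.A * g = z := by rw [← hg1]; group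
    have hgi2 : g⁻¹ * z * g = P.A := (congrArg (fun v => g⁻¹ * v * g) hg2.symm).trans (by group)
    let c' : Subgroup.centralizer ({z} : Set G) :=
      ⟨g⁻¹ * c * g, Subgroup.mem_centralizer_singleton_iff.2 (mul_inv_eq_iff_eq_mul.1 (by
        calc g⁻¹ * c * g * z * (g⁻¹ * c * g)⁻¹ = g⁻¹ * ((c : G) * (g * z * g⁻¹) * (c : G)⁻¹) * g := by group
          _ = z := by rw [hg1, hcA, hgi1]))⟩
    have hc'A : D.coord.act (QuotientGroup.mk c') ones = ones := by
      rw [← P.ha, ← FD.vec_conj]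
      refine congrArg D.vec (Subtype.ext (Subtype.ext ?_))
      show g⁻¹ * c * g * P.A * (g⁻¹ * c * g)⁻¹ = P.A
      calc g⁻¹ * c * g * P.A * (g⁻¹ * c * g)⁻¹ = g⁻¹ * ((c : G) * (g * P.A * g⁻¹) * (c : G)⁻¹) * g := by group
        _ = P.A := by rw [hg2, hcz, hgi2]
    set e : Subgroup.centralizer ({z} : Set G) ⧸ Q := QuotientGroup.mk c'
    -- the second conjugate moves at most by the first
    have hcase : D.vec (MulAut.conjNormal c' P.bQ) = D.vec P.bQ ∨
        D.vec (MulAut.conjNormal c' P.bQ) = D.vec (P.bQ * P.a) := by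
      rw [FD.vec_conj, FD.vec_mul, P.vec_bQ, P.ha, ← nu_ones_facts.1]
      rcases D.S.n_conj e with h | h
      · left
        rw [D.coord.act_nu_comm (mul_inv_eq_iff_eq_mul.1 h), hc'A]
      · right
        have h3 : e * D.S.n = D.S.n * D.S.n * e := mul_inv_eq_iff_eq_mul.1 h
        have hn : ∀ w, D.coord.act D.S.n w = fun i => nuK (w i) := fun w => D.coord.act_spec (D.coord.nu w).symm
        rw [← hn ones, ← D.coord.act_mul, h3, D.coord.act_mul, hc'A, D.coord.act_mul, hn ones, hn]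
        decide +kernel
    have hfinal : D.vec (MulAut.conjNormal c b) = D.vec b ∨ D.vec (MulAut.conjNormal c b) = D.vec b + ones := by
      have hval : inG z Q (MulAut.conjNormal c b) = g * inG z Q (MulAut.conjNormal c' P.bQ) * g⁻¹ := by
        show (c : G) * inG z Q b * (c : G)⁻¹ = g * (g⁻¹ * c * g * P.B * (g⁻¹ * c * g)⁻¹) * g⁻¹
        rw [hb]; group
      have hsplit : ∀ u v : G, g * (u * v) * g⁻¹ = (g * u * g⁻¹) * (g * v * g⁻¹) := fun u v => by group
      rw [← P.ha, ← FD.vec_mul]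
      rcases hcase with h | h <;> rcases (FD.vec_eq_iff D).1 h.symm with h' | h'
      · left
        refine ((FD.vec_eq_iff D).2 (Or.inl ?_)).symm
        rw [hval, h', P.inG_bQ, hb]
      · right
        refine ((FD.vec_eq_iff D).2 (Or.inl ?_)).symm
        rw [hval, h', P.inG_bQ, hsplit, hg1, ← hb]
        rfl
      · left
        refine ((FD.vec_eq_iff D).2 (Or.inr ?_)).symm
        rw [hval, h', show inG z Q (P.bQ * P.a) = P.B * P.A from rfl, hsplit, hg2, ← hb]
      · right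
        refine ((FD.vec_eq_iff D).2 (Or.inr ?_)).symm
        rw [hval, h', show inG z Q (P.bQ * P.a) = P.B * P.A from rfl, hsplit, hsplit, hg1, hg2, ← hb,
          show inG z Q (b * P.a) = inG z Q b * P.A from rfl]
        rw [mul_assoc, mul_assoc]
        exact congrArg (inG z Q b * ·) (D.good.le_cent _ (FData.mem_map P.a)).symm
    rw [FD.vec_conj, hact, hmv] at hfinal
    rcases hfinal with h | h
    · exact (not_const_pair i j hij d hd).1 (add_eq_left.1 h)
    · exact (not_const_pair i j hij d hd).2 (add_left_cancel h)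

/-- `z` is a commutator in the centraliser of `x`. -/
theorem z_mem_commutator :
    (⟨z, Subgroup.mem_centralizer_singleton_iff.2 rfl⟩ : Subgroup.centralizer ({z} : Set G)) ∈
      ⁅Subgroup.centralizer ({P.x} : Set (Subgroup.centralizer ({z} : Set G))),
        Subgroup.centralizer ({P.x} : Set (Subgroup.centralizer ({z} : Set G)))⁆ := by
  haveI : Finite (Additive (Abelianization Q)) := Finite.of_equiv _ D.coord.Ψ.toEquiv
  obtain ⟨g, hg1, hg2⟩ := P.exists_swap
  obtain ⟨b, p, hb, hbv, hp⟩ := P.vec_image hg1 hg2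
  obtain ⟨δ, hδ0, hδ1, hpair, -⟩ := common_lines P.base P.hF P.hg P.ha
  have hgi1 : g⁻¹ * P.A * g = z := by rw [← hg1]; group
  have hgi2 : g⁻¹ * z * g = P.A := (congrArg (fun v => g⁻¹ * v * g) hg2.symm).trans (by group)
  have hgib : g⁻¹ * inG z Q b * g = P.B := by rw [hb]; group
  have hBne : inG z Q b ≠ 1 ∧ inG z Q b ≠ z := by
    refine ⟨fun e => ?_, fun e => ?_⟩
    · have h := (D.vec_eq_zero_iff b).2 (Or.inl e)
      rw [hbv] at h
      rcases hp with rfl | rfl <;> exact absurd h (by decide +kernel)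
    · have h := FD.vec_z D e
      rw [hbv] at h
      rcases hp with rfl | rfl <;> exact absurd h (by decide +kernel)
  -- pairs in `Q ∩ Q_b`
  obtain ⟨h₀, hh₀, hh₀v⟩ : ∃ h : Subgroup.centralizer ({z} : Set G),
      (h : G) * P.A * (h : G)⁻¹ = inG z Q b ∧
      ∀ q : Q, D.vec (MulAut.conjNormal h q) = fun i => sm p (D.vec q i) := by
    obtain ⟨e, heq, hev⟩ : ∃ e : Subgroup.centralizer ({z} : Set G),
        D.vec (MulAut.conjNormal e P.a) = constW p ∧
        ∀ q : Q, D.vec (MulAut.conjNormal e q) = fun i => sm p (D.vec q i) := by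
      have h2 : ∀ q : Q, D.vec (MulAut.conjNormal (P.x * P.x) q) = fun i => sm (1, 1) (D.vec q i) := fun q => by
        rw [map_mul, MulAut.mul_apply, vec_conj_gen P.gen]
        funext i
        rw [congrFun (vec_conj_gen P.gen q) i, sm_units.2.2]
        exact nu_sq (D.vec q i)
      rcases hp with rfl | rfl
      · refine ⟨P.x, P.vec_bQ, fun q => ?_⟩
        rw [vec_conj_gen P.gen]
        funext i
        rw [sm_units.2.1]
      · refine ⟨P.x * P.x, ?_, h2⟩
        rw [map_mul, MulAut.mul_apply]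
        exact P.vec_cQ
    rcases (FD.vec_eq_iff D (a := MulAut.conjNormal e P.a) (b := b)).1 (by rw [heq, hbv]) with h | h
    · exact ⟨e, h.symm, hev⟩
    · set Y : G := (e : G) * P.A * (e : G)⁻¹ with hY
      have hY' : inG z Q (MulAut.conjNormal e P.a) = Y := rfl
      rw [hY'] at h
      obtain ⟨r, ⟨r', hr', rfl⟩, hre⟩ := D.good.exists_move (FData.mem_map (MulAut.conjNormal e P.a))
        (fun e' => hBne.2 (by rw [h, ← hY', e', one_mul]))
        (fun e' => hBne.1 (by rw [h, ← hY', e', D.good.x_sq]))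
      rw [hY'] at hre
      refine ⟨r' * e, ?_, fun q => ?_⟩
      · rw [h, ← hre]
        show (r' : G) * (e : G) * P.A * ((r' : G) * (e : G))⁻¹ = _
        show _ = (r' : G) * Y * (r' : G)⁻¹
        rw [hY]
        group
      · rw [FD.vec_conj, QuotientGroup.mk_mul, (QuotientGroup.eq_one_iff r').2 hr', one_mul, ← FD.vec_conj, hev]
  have hδ' := sm_facts p δ hp hδ0 hδ1
  set δ' := sm p δ with hδ'def
  have hcommon : ∀ i j : Fin 6, i ≠ j → Common D (inG z Q b) (pairW i j δ') := by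
    intro i j hij
    obtain ⟨q, hq, hqA⟩ := hpair i j hij
    refine ⟨MulAut.conjNormal h₀ q, by rw [hh₀v, hq, sm_pairW], ?_⟩
    have h := hqA.conj (h₀ : G)
    rwa [show (h₀ : G) * inG z Q P.a * (h₀ : G)⁻¹ = inG z Q b from hh₀] at h
  -- lifts of even permutations fixing all three
  have hlift : ∀ σ : Equiv.Perm (Fin 6), Equiv.Perm.sign σ = 1 → ∃ c : Subgroup.centralizer ({z} : Set G),
      (c : G) * P.A * (c : G)⁻¹ = P.A ∧ (c : G) * inG z Q b * (c : G)⁻¹ = inG z Q b ∧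
      ∀ w, D.coord.act (QuotientGroup.mk c) w = fun m => w (σ.symm m) := by
    intro σ hσ
    obtain ⟨c, -, hcA, hact⟩ := exists_perm_lift P.hg P.ha σ hσ
    change (c : G) * P.A * (c : G)⁻¹ = P.A at hcA
    have hv : D.vec (MulAut.conjNormal c b) = D.vec b := by
      rw [FD.vec_conj, hact, hbv]
      rfl
    rcases (FD.vec_eq_iff D).1 hv.symm with h | h
    · exact ⟨c, hcA, h, hact⟩
    · obtain ⟨r, hr⟩ := FD.exists_vec D ![(1, 0), 0, 0, 0, 0, 0]
      have hrA : inG z Q r * P.A = P.A * inG z Q r := by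
        refine (FD.commute_iff_wt D r P.a).2 ?_
        rw [hr, P.ha]; exact head_ones
      have hrb : inG z Q r * inG z Q b * (inG z Q r)⁻¹ = inG z Q b * z := by
        refine (D.good.comm _ (FData.mem_map r) _ (FData.mem_map b)).resolve_left fun e => ?_
        have h' := (FD.commute_iff_wt D r b).1 (mul_inv_eq_iff_eq_mul.1 e)
        rw [hr, hbv] at h'
        exact head_mover p hp h'
      have hrz : inG z Q r * z * (inG z Q r)⁻¹ = z :=
        mul_inv_eq_iff_eq_mul.2 (D.good.le_cent _ (FData.mem_map r))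
      refine ⟨r.1 * c, ?_, ?_, fun w => ?_⟩
      · show inG z Q r * (c : G) * P.A * (inG z Q r * (c : G))⁻¹ = P.A
        calc inG z Q r * (c : G) * P.A * (inG z Q r * (c : G))⁻¹
            = inG z Q r * ((c : G) * P.A * (c : G)⁻¹) * (inG z Q r)⁻¹ := by group
          _ = P.A := by rw [hcA, mul_inv_eq_iff_eq_mul.2 hrA]
      · show inG z Q r * (c : G) * inG z Q b * (inG z Q r * (c : G))⁻¹ = inG z Q b
        have h' : (c : G) * inG z Q b * (c : G)⁻¹ = inG z Q b * z := h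
        calc inG z Q r * (c : G) * inG z Q b * (inG z Q r * (c : G))⁻¹
            = (inG z Q r * inG z Q b * (inG z Q r)⁻¹) * (inG z Q r * ((inG z Q b)⁻¹ * ((c : G) * inG z Q b * (c : G)⁻¹)) *
                (inG z Q r)⁻¹) := by group
          _ = inG z Q b := by rw [h', inv_mul_cancel_left, hrz, hrb, mul_assoc, D.good.x_sq, mul_one]
      · rw [QuotientGroup.mk_mul, (QuotientGroup.eq_one_iff r.1).2 r.2, one_mul, hact]
  -- one commutator
  set K := ⁅Subgroup.centralizer ({P.x} : Set (Subgroup.centralizer ({z} : Set G))),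
    Subgroup.centralizer ({P.x} : Set (Subgroup.centralizer ({z} : Set G)))⁆
  have hone : ∀ i j i' j' : Fin 6, i ≠ j → i' ≠ j' → ∃ (m : Q) (v : Subgroup.centralizer ({z} : Set G)),
      v ∈ K ∧ D.vec m = pairW i j δ' + pairW i' j' δ' ∧ P.T (g⁻¹ * inG z Q m * g) ∧
      (v : G) = avg (P.x : G) (g⁻¹ * inG z Q m * g) := by
    intro i j i' j' hij hij'
    obtain ⟨σ, hσ, hi, hj⟩ := exists_even_map i j i' j' hij hij'
    obtain ⟨c, hcA, hcb, hact⟩ := hlift σ hσ
    obtain ⟨q, hq, hqb⟩ := hcommon i j hij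
    have hqT : P.T (g⁻¹ * inG z Q q * g) := by
      constructor
      · have h := ((FD.inAt_z D).2 (FData.mem_map q)).conj g⁻¹
        rwa [inv_inv, hgi2] at h
      · have h := hqb.conj g⁻¹
        rwa [inv_inv, hgib] at h
    have hcz : (c : G) * z * (c : G)⁻¹ = z := mul_inv_eq_iff_eq_mul.2 (Subgroup.mem_centralizer_singleton_iff.1 c.2)
    let c' : Subgroup.centralizer ({z} : Set G) :=
      ⟨g⁻¹ * c * g, Subgroup.mem_centralizer_singleton_iff.2 (mul_inv_eq_iff_eq_mul.1 (by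
        calc g⁻¹ * c * g * z * (g⁻¹ * c * g)⁻¹ = g⁻¹ * ((c : G) * (g * z * g⁻¹) * (c : G)⁻¹) * g := by group
          _ = z := by rw [hg1, hcA, hgi1]))⟩
    have hc'A : (c' : G) * P.A * (c' : G)⁻¹ = P.A := by
      show g⁻¹ * c * g * P.A * (g⁻¹ * c * g)⁻¹ = P.A
      calc g⁻¹ * c * g * P.A * (g⁻¹ * c * g)⁻¹ = g⁻¹ * ((c : G) * (g * P.A * g⁻¹) * (c : G)⁻¹) * g := by group
        _ = P.A := by rw [hg2, hcz, hgi2]
    have hc'B : (c' : G) * P.B * (c' : G)⁻¹ = P.B := by
      show g⁻¹ * c * g * P.B * (g⁻¹ * c * g)⁻¹ = P.B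
      calc g⁻¹ * c * g * P.B * (g⁻¹ * c * g)⁻¹ = g⁻¹ * ((c : G) * (g * P.B * g⁻¹) * (c : G)⁻¹) * g := by group
        _ = P.B := by rw [← hb, hcb, hgib]
    obtain ⟨v, hv, hve⟩ := P.avg_commutator c' hc'A hc'B hqT
    have hval : g⁻¹ * inG z Q (MulAut.conjNormal c q * q) * g =
        (c' : G) * (g⁻¹ * inG z Q q * g) * (c' : G)⁻¹ * (g⁻¹ * inG z Q q * g) := by
      show g⁻¹ * ((c : G) * inG z Q q * (c : G)⁻¹ * inG z Q q) * g =
        g⁻¹ * c * g * (g⁻¹ * inG z Q q * g) * (g⁻¹ * c * g)⁻¹ * (g⁻¹ * inG z Q q * g)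
      group
    refine ⟨MulAut.conjNormal c q * q, v, hv, ?_, ?_, ?_⟩
    · rw [FD.vec_mul, FD.vec_conj, hact, hq, pairW_moved, hi, hj, add_comm]
    · rw [hval]
      exact P.T_mul ⟨hqT.1.conj_fix hc'A, hqT.2.conj_fix hc'B⟩ hqT
    · rw [hval]; exact hve
  obtain ⟨m₁, v₁, hv₁, hm₁, hT₁, he₁⟩ := hone 0 1 2 3 (by decide) (by decide)
  obtain ⟨m₂, v₂, hv₂, hm₂, hT₂, he₂⟩ := hone 0 4 0 5 (by decide) (by decide)
  have hm : D.vec (m₁ * m₂) = constW δ' := by rw [FD.vec_mul, hm₁, hm₂, four_sets]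
  have hprod : (v₁ : G) * v₂ = avg (P.x : G) (g⁻¹ * inG z Q (m₁ * m₂) * g) := by
    rw [he₁, he₂, ← P.avg_mul hT₁ hT₂]
    congr 1
    show g⁻¹ * inG z Q m₁ * g * (g⁻¹ * inG z Q m₂ * g) = g⁻¹ * (inG z Q m₁ * inG z Q m₂) * g
    group
  suffices (v₁ : G) * v₂ = z by
    have h := mul_mem hv₁ hv₂
    rwa [show v₁ * v₂ = (⟨z, Subgroup.mem_centralizer_singleton_iff.2 rfl⟩ : Subgroup.centralizer ({z} : Set G)) from
      Subtype.ext this] at h
  rw [hprod]
  have hsplit : ∀ u v : G, g⁻¹ * (u * v) * g = (g⁻¹ * u * g) * (g⁻¹ * v * g) := fun u v => by group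
  have hcases : δ' = (1, 0) ∨ δ' = (1, 0) + p := by
    revert hδ'
    rcases hp with rfl | rfl <;> rcases k4_cases δ' with r | r | r | r <;> rw [r] <;> decide
  have hzA : g⁻¹ * inG z Q P.a * g = z := hgi1
  rcases hcases with e | e
  · have h := hm
    rw [e, ← ones_eq_constW, ← P.ha] at h
    rcases (FD.vec_eq_iff D).1 h.symm with h' | h' <;> rw [h']
    · rw [hzA]; exact P.avg_z
    · rw [hsplit, hzA, hgi2, P.avg_mul P.T_z P.T_A, P.avg_z, P.avg_A, mul_one]
  · have h : D.vec (m₁ * m₂) = D.vec (P.a * b) := by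
      rw [hm, e, FD.vec_mul, P.ha, hbv]
      rfl
    rcases (FD.vec_eq_iff D).1 h.symm with h' | h' <;> rw [h', show inG z Q (P.a * b) = inG z Q P.a * inG z Q b from rfl]
    · rw [hsplit, hzA, hgib, P.avg_mul P.T_z P.T_B, P.avg_z, P.avg_B, mul_one]
    · rw [hsplit, hsplit, hzA, hgib, hgi2, P.avg_mul (P.T_mul P.T_z P.T_B) P.T_A, P.avg_mul P.T_z P.T_B, P.avg_z,
        P.avg_B, P.avg_A, mul_one, mul_one]

end Triple

end Cfsg.Agent.Lib.LargeFischerCover95
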