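import Mathlib
import Cfsg.Agent.Lib.LargeFischerCover95.Cover

/-!
The elementary abelian group of order eight `V = Q ∩ Q_a ∩ Q_b`, and the exact image of `Q ∩ Q_a`.
-/

set_option autoImplicit false

namespace Cfsg.Agent.Lib.LargeFischerCover95

open Cfsg.Agent.Lib
open Cfsg.Agent.Lib.FischerType

/-- The span of the constants and the pairs scaled by `d`. -/
def InLines (d : K4) (w : W6) : Prop := (∀ i, w i + w 0 = 0 ∨ w i + w 0 = d) ∧ ∑ i, (w i + w 0) = 0

instance (d : K4) : DecidablePred (InLines d) := fun w =>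
  inferInstanceAs (Decidable ((∀ i, w i + w 0 = 0 ∨ w i + w 0 = d) ∧ ∑ i, (w i + w 0) = 0))

theorem w6_eta (w : W6) : w = ![w 0, w 1, w 2, w 3, w 4, w 5] := by
  funext i; fin_cases i <;> rfl

theorem ortho_table_omega : ∀ a b c d e f : K4, wt ![a, b, c, d, e, f] % 2 = 0 →
    wt (![a, b, c, d, e, f] + constW (1, 0)) % 2 = 0 →
    (∀ j : Fin 6, j ≠ 0 → wt (![a, b, c, d, e, f] + pairW 0 j (0, 1)) % 2 = 0) →
    InLines (0, 1) ![a, b, c, d, e, f] := by decide +kernel

theorem inLines_of_ortho_omega (w : W6) (h1 : wt w % 2 = 0) (h2 : wt (w + constW (1, 0)) % 2 = 0)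
    (h3 : ∀ j : Fin 6, j ≠ 0 → wt (w + pairW 0 j (0, 1)) % 2 = 0) : InLines (0, 1) w := by
  rw [w6_eta w] at h1 h2 h3 ⊢
  exact ortho_table_omega _ _ _ _ _ _ h1 h2 h3

theorem ortho_table_bar : ∀ a b c d e f : K4, wt ![a, b, c, d, e, f] % 2 = 0 →
    wt (![a, b, c, d, e, f] + constW (1, 0)) % 2 = 0 →
    (∀ j : Fin 6, j ≠ 0 → wt (![a, b, c, d, e, f] + pairW 0 j (1, 1)) % 2 = 0) →
    InLines (1, 1) ![a, b, c, d, e, f] := by decide +kernel

theorem inLines_of_ortho_bar (w : W6) (h1 : wt w % 2 = 0) (h2 : wt (w + constW (1, 0)) % 2 = 0)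
    (h3 : ∀ j : Fin 6, j ≠ 0 → wt (w + pairW 0 j (1, 1)) % 2 = 0) : InLines (1, 1) w := by
  rw [w6_eta w] at h1 h2 h3 ⊢
  exact ortho_table_bar _ _ _ _ _ _ h1 h2 h3

theorem lines_meet {d : K4} (hd : d ≠ 0) {w : W6} (h1 : InLines d w)
    (h2 : InLines d fun i => nuK (nuK (w i))) : ∀ i, w i = w 0 := by
  have key : ∀ d a b : K4, d ≠ 0 → (a + b = 0 ∨ a + b = d) →
      (nuK (nuK a) + nuK (nuK b) = 0 ∨ nuK (nuK a) + nuK (nuK b) = d) → a = b := by decide +kernel
  exact fun i => key d _ _ hd (h1.1 i) (h2.1 i)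

theorem lines_expand : ∀ a b c d e f : K4, a + b + c + d + e + f = 0 → a = b + c + d + e + f := by decide +kernel

variable {G : Type*} [Group G] [Finite G] {z : G} {Q : Subgroup (Subgroup.centralizer ({z} : Set G))} [Q.Normal]

/-- The group belonging to a conjugate, as a subgroup. -/
def atSub (Q : Subgroup (Subgroup.centralizer ({z} : Set G))) (s : G) : Subgroup G where
  carrier := {v | InAt Q s v}
  one_mem' := InAt.one s
  mul_mem' := InAt.mul
  inv_mem' := InAt.inv

namespace Triple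

variable {D : FData z Q} (P : Triple D)

/-- The scalar of the pairs in `Q ∩ Q_a`. -/
noncomputable def δ : K4 := (common_lines P.base P.hF P.hg P.ha).choose

theorem δ_spec : P.δ ≠ 0 ∧ P.δ ≠ (1, 0) ∧
    (∀ i j : Fin 6, i ≠ j → Common D P.A (pairW i j P.δ)) ∧ ∀ p, Common D P.A (constW p) :=
  (common_lines P.base P.hF P.hg P.ha).choose_spec

theorem common_iff (w : W6) : Common D P.A w ↔ InLines P.δ w := by
  obtain ⟨h0, h1, hpair, hconst⟩ := P.δ_spec
  constructor
  · intro hw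
    have e1 := common_sq P.hg P.ha hw
    have e2 := common_sq P.hg P.ha (hw.add (hconst (1, 0)))
    have e3 : ∀ j : Fin 6, j ≠ 0 → wt (w + pairW 0 j P.δ) % 2 = 0 := fun j hj =>
      common_sq P.hg P.ha (hw.add (hpair 0 j (Ne.symm hj)))
    rcases k4_cases P.δ with e | e | e | e
    · exact absurd e h0
    · exact absurd e h1
    · rw [e] at e3 ⊢; exact inLines_of_ortho_omega w e1 e2 e3
    · rw [e] at e3 ⊢; exact inLines_of_ortho_bar w e1 e2 e3
  · rintro ⟨hv, hs⟩
    have hall : ∀ j : Fin 6, j ≠ 0 → Common D P.A (pairW 0 j (w j + w 0)) := fun j hj => by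
      rcases hv j with e | e <;> rw [e]
      · rw [show pairW 0 j (0 : K4) = 0 by simp [pairW]]
        exact ⟨1, (D.vec_eq_zero_iff 1).2 (Or.inl rfl), InAt.one _⟩
      · exact hpair 0 j (Ne.symm hj)
    have e : w = constW (w 0) + (pairW 0 1 (w 1 + w 0) + pairW 0 2 (w 2 + w 0) + pairW 0 3 (w 3 + w 0) +
        pairW 0 4 (w 4 + w 0) + pairW 0 5 (w 5 + w 0)) := by
      rw [Fin.sum_univ_six, k4_self] at hs
      have h := lines_expand _ _ _ _ _ _ hs
      have hc : ∀ a b : K4, b + (a + b) = a := by decide +kernel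
      funext m
      fin_cases m <;> simp [constW, pairW, hc, ← h]
    rw [e]
    exact (hconst _).add ((((hall 1 (by decide)).add (hall 2 (by decide))).add (hall 3 (by decide))).add
      (hall 4 (by decide)) |>.add (hall 5 (by decide)))

theorem common_B {w : W6} (hw : Common D P.B w) : InLines P.δ fun i => nuK (nuK (w i)) := by
  obtain ⟨q, rfl, hq⟩ := hw
  refine (P.common_iff _).1 ⟨MulAut.conjNormal (P.x * P.x) q, ?_, ?_⟩
  · rw [map_mul, MulAut.mul_apply, vec_conj_gen P.gen, vec_conj_gen P.gen]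
  · have h := hq.conj ((P.x : G) * (P.x : G))
    have e : (P.x : G) * (P.x : G) * P.B * ((P.x : G) * (P.x : G))⁻¹ = P.A := by
      calc (P.x : G) * (P.x : G) * P.B * ((P.x : G) * (P.x : G))⁻¹ = (P.x : G) * P.C * (P.x : G)⁻¹ := by
            simp only [C]; group
        _ = P.A := P.x_C
    rw [e] at h
    exact h

/-- The group `V`. -/
def V : Subgroup G := Q.map (Subgroup.centralizer ({z} : Set G)).subtype ⊓ atSub Q P.A ⊓ atSub Q P.B

theorem mem_V {v : G} : v ∈ P.V ↔ v ∈ Q.map (Subgroup.centralizer ({z} : Set G)).subtype ∧ P.T v :=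
  ⟨fun h => ⟨h.1.1, h.1.2, h.2⟩, fun h => ⟨⟨h.1, h.2.1⟩, h.2.2⟩⟩

theorem vec_const_of_T {q : Q} (hq : P.T (inG z Q q)) : ∀ i, D.vec q i = D.vec q 0 :=
  lines_meet P.δ_spec.1 ((P.common_iff _).1 ⟨q, rfl, hq.1⟩) (P.common_B ⟨q, rfl, hq.2⟩)

/-- Elements of `Q` with constant vector. -/
theorem const_cases_V {q : Q} {p : K4} (hq : D.vec q = constW p) :
    (inG z Q q = 1 ∨ inG z Q q = z) ∨ (inG z Q q = P.A ∨ inG z Q q = P.A * z) ∨
      (inG z Q q = P.B ∨ inG z Q q = P.B * z) ∨ (inG z Q q = P.A * P.B ∨ inG z Q q = P.A * P.B * z) := by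
  rcases k4_cases p with rfl | rfl | rfl | rfl
  · exact Or.inl ((D.vec_eq_zero_iff q).1 hq)
  · exact Or.inr (Or.inl ((FD.vec_eq_iff D (a := P.a)).1 (P.ha.trans hq.symm)))
  · exact Or.inr (Or.inr (Or.inl ((FD.vec_eq_iff D (a := P.bQ)).1 (P.vec_bQ.trans hq.symm))))
  · refine Or.inr (Or.inr (Or.inr ((FD.vec_eq_iff D (a := P.a * P.bQ)).1 ?_)))
    rw [FD.vec_mul, P.ha, P.vec_bQ, hq]
    exact nu_ones_facts.2.2.2.2.2.2.2.2.2

theorem mem_V_of_const {q : Q} {p : K4} (hq : D.vec q = constW p) : inG z Q q ∈ P.V := by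
  refine P.mem_V.2 ⟨FData.mem_map q, ?_⟩
  have h1 : P.T (1 : G) := ⟨InAt.one _, InAt.one _⟩
  have hAB := P.T_mul P.T_A P.T_B
  rcases P.const_cases_V hq with (e | e) | (e | e) | (e | e) | (e | e) <;> rw [e]
  exacts [h1, P.T_z, P.T_A, P.T_mul P.T_A P.T_z, P.T_B, P.T_mul P.T_B P.T_z, hAB, P.T_mul hAB P.T_z]

theorem z_mem_V : z ∈ P.V := P.mem_V.2 ⟨D.good.x_mem, P.T_z⟩

theorem A_mem_V : P.A ∈ P.V := P.mem_V.2 ⟨FData.mem_map P.a, P.T_A⟩

theorem B_mem_V : P.B ∈ P.V := P.mem_V.2 ⟨FData.mem_map P.bQ, P.T_B⟩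

theorem V_rep {v : G} (hv : v ∈ P.V) : ∃ (q : Q) (p : K4), inG z Q q = v ∧ D.vec q = constW p := by
  obtain ⟨⟨q, hq, rfl⟩, hT⟩ := P.mem_V.1 hv
  exact ⟨⟨q, hq⟩, _, rfl, funext (P.vec_const_of_T (q := ⟨q, hq⟩) hT)⟩

theorem V_elementary : Cfsg.IsElementaryAbelian 2 P.V :=
  ⟨IsMulCommutative.of_comm fun u v => Subtype.ext (P.T_comm (P.mem_V.1 u.2).2 (P.mem_V.1 v.2).2),
    fun v hv => by rw [pow_two]; exact P.T_sq (P.mem_V.1 hv).2⟩

theorem card_V : Nat.card P.V = 8 := by
  classical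
  let f : K4 × Bool → P.V := fun pb =>
    ⟨(inG z Q (FD.exists_vec D (constW pb.1)).choose) * (if pb.2 then z else 1),
      mul_mem (P.mem_V_of_const (FD.exists_vec D (constW pb.1)).choose_spec)
        (by split <;> [exact P.z_mem_V; exact one_mem _])⟩
  have hb : Function.Bijective f := by
    constructor
    · rintro ⟨p, b⟩ ⟨p', b'⟩ h
      have h' := congrArg Subtype.val h
      simp only [f] at h'
      have hp := (FD.exists_vec D (constW p)).choose_spec
      have hp' := (FD.exists_vec D (constW p')).choose_spec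
      have hz : ∀ q : Q, inG z Q q * z * z = inG z Q q := fun q => by rw [mul_assoc, D.good.x_sq, mul_one]
      have heq : D.vec (FD.exists_vec D (constW p)).choose = D.vec (FD.exists_vec D (constW p')).choose := by
        refine (FD.vec_eq_iff D).2 ?_
        cases b <;> cases b' <;> simp only [Bool.false_eq_true, if_false, if_true, mul_one] at h'
        · exact Or.inl h'.symm
        · exact Or.inr (by rw [h', hz])
        · exact Or.inr h'.symm
        · exact Or.inl (mul_right_cancel h').symm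
      have hpp : p = p' := congrFun (hp.symm.trans (heq.trans hp')) 0
      subst hpp
      rcases Bool.eq_false_or_eq_true b with rfl | rfl <;> rcases Bool.eq_false_or_eq_true b' with rfl | rfl <;>
        simp [D.good.x_ne, D.good.x_ne.symm] at h' ⊢
    · rintro ⟨v, hv⟩
      obtain ⟨q, p, rfl, hq⟩ := P.V_rep hv
      rcases (FD.vec_eq_iff D).1 ((FD.exists_vec D (constW p)).choose_spec.trans hq.symm) with e | e
      · exact ⟨(p, false), Subtype.ext (by simp [f, e])⟩
      · exact ⟨(p, true), Subtype.ext (by simp [f, e])⟩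
  rw [← Nat.card_congr (Equiv.ofBijective f hb)]
  simp [Nat.card_eq_fintype_card]

/-- Centralising `V` is fixing `z` and the two conjugates. -/
theorem cent_V_iff {c : G} : c ∈ Subgroup.centralizer (P.V : Set G) ↔
    c * z = z * c ∧ c * P.A * c⁻¹ = P.A ∧ c * P.B * c⁻¹ = P.B := by
  rw [Subgroup.mem_centralizer_iff]
  constructor
  · exact fun h => ⟨(h z P.z_mem_V).symm, mul_inv_eq_iff_eq_mul.2 (h _ P.A_mem_V).symm,
      mul_inv_eq_iff_eq_mul.2 (h _ P.B_mem_V).symm⟩
  · rintro ⟨hz, hA, hB⟩ v hv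
    have hz' : Commute c z := hz
    have hA' : Commute c P.A := mul_inv_eq_iff_eq_mul.1 hA
    have hB' : Commute c P.B := mul_inv_eq_iff_eq_mul.1 hB
    obtain ⟨q, p, rfl, hq⟩ := P.V_rep hv
    refine Eq.symm (show Commute c (inG z Q q) from ?_)
    rcases P.const_cases_V hq with (e | e) | (e | e) | (e | e) | (e | e) <;> rw [e]
    exacts [Commute.one_right c, hz', hA', hA'.mul_right hz', hB', hB'.mul_right hz', hA'.mul_right hB',
      (hA'.mul_right hB').mul_right hz']

/-- Fixing both conjugates forces the image into `M`. -/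
theorem mk_mem_M (c : Subgroup.centralizer ({z} : Set G)) (hcA : (c : G) * P.A * (c : G)⁻¹ = P.A)
    (hcB : (c : G) * P.B * (c : G)⁻¹ = P.B) :
    (QuotientGroup.mk c : Subgroup.centralizer ({z} : Set G) ⧸ Q) ∈ D.S.M := by
  haveI : Finite (Additive (Abelianization Q)) := Finite.of_equiv _ D.coord.Ψ.toEquiv
  set cb : Subgroup.centralizer ({z} : Set G) ⧸ Q := QuotientGroup.mk c with hcb
  have hfix : ∀ q : Q, (c : G) * inG z Q q * (c : G)⁻¹ = inG z Q q → D.coord.act cb (D.vec q) = D.vec q :=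
    fun q h => by
      rw [hcb, ← FD.vec_conj]
      exact congrArg D.vec (Subtype.ext (Subtype.ext h))
  refine (D.commute_iff P.hF cb).1 ((D.S.n_conj cb).elim (fun h => mul_inv_eq_iff_eq_mul.1 h) fun h => ?_)
  exfalso
  have h1 := hfix P.a hcA
  have h2 := hfix P.bQ hcB
  rw [P.vec_bQ] at h2
  rw [P.ha] at h1
  have h3 : cb * D.S.n = D.S.n * D.S.n * cb := mul_inv_eq_iff_eq_mul.1 h
  have e : D.coord.act (cb * D.S.n) ones = constW (0, 1) := by
    rw [D.coord.act_mul, show D.coord.act D.S.n ones = constW (0, 1) from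
      (D.coord.act_spec (D.coord.nu _).symm).trans nu_ones_facts.1, h2]
  rw [h3, D.coord.act_mul, h1, D.coord.act_mul,
    show D.coord.act D.S.n ones = constW (0, 1) from (D.coord.act_spec (D.coord.nu _).symm).trans nu_ones_facts.1,
    show D.coord.act D.S.n (constW (0, 1)) = constW (1, 1) from
      (D.coord.act_spec (D.coord.nu _).symm).trans nu_ones_facts.2.2.1] at e
  exact nu_ones_facts.2.2.2.2.2.2.2.2.1 e

end Triple

end Cfsg.Agent.Lib.LargeFischerCover95
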