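import Mathlib
import Cfsg.Agent.Lib.LargeFischerCover95.Eight
import Cfsg.Agent.Lib.PGroup.Frattini

/-!
The centraliser of `V`: an alternating group of degree six over a special group of order `2^15`.
-/

set_option autoImplicit false

namespace Cfsg.Agent.Lib.LargeFischerCover95

open Cfsg.Agent.Lib
open Cfsg.Agent.Lib.FischerType

variable {G : Type*} [Group G] [Finite G] {z : G} {Q : Subgroup (Subgroup.centralizer ({z} : Set G))} [Q.Normal]

namespace Triple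

variable {D : FData z Q} (P : Triple D)

/-- The centraliser of `V`. -/
abbrev CV : Subgroup G := Subgroup.centralizer (P.V : Set G)

theorem CV_le : P.CV ≤ Subgroup.centralizer ({z} : Set G) := fun _ hc =>
  Subgroup.mem_centralizer_singleton_iff.2 (P.cent_V_iff.1 hc).1

/-- The map to `C(z)/Q`. -/
def ψ : P.CV →* Subgroup.centralizer ({z} : Set G) ⧸ Q :=
  (QuotientGroup.mk' Q).comp (Subgroup.inclusion P.CV_le)

theorem ψ_mem_M (c : P.CV) : P.ψ c ∈ D.S.M :=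
  P.mk_mem_M _ (P.cent_V_iff.1 c.2).2.1 (P.cent_V_iff.1 c.2).2.2

/-- The image of the group belonging to `a`. -/
def EA : Subgroup (Subgroup.centralizer ({z} : Set G) ⧸ Q) :=
  eimg Q ((Q.map (Subgroup.centralizer ({z} : Set G)).subtype).map (MulAut.conj P.g).toMonoidHom)

/-- The image of the centraliser of `a`. -/
def XA : Subgroup (Subgroup.centralizer ({z} : Set G) ⧸ Q) :=
  ((Subgroup.centralizer ({z} : Set G) ⊓ Subgroup.centralizer ({P.A} : Set G)).subgroupOf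
    (Subgroup.centralizer ({z} : Set G))).map (QuotientGroup.mk' Q)

theorem struct : Nat.card P.EA = 32 ∧ P.EA ≤ P.XA ∧
    ∃ _ : (P.EA.subgroupOf P.XA).Normal, Nonempty (P.XA ⧸ P.EA.subgroupOf P.XA ≃* alternatingGroup (Fin 6)) := by
  have h := S5442.result z Q P.hF P.A ⟨P.a.1.2, P.a.2⟩ (isConj_iff.2 ⟨P.g, P.hgA⟩) P.A_ne_z P.g P.hgA
    P.XA P.EA rfl rfl
  exact ⟨h.2.2.2.2.2.1, h.2.2.1, h.2.2.2.2.2.2⟩

theorem card_XA : Nat.card P.XA = 11520 := by
  obtain ⟨h32, hle, hn, ⟨e⟩⟩ := P.struct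
  rw [Subgroup.card_eq_card_quotient_mul_card_subgroup (P.EA.subgroupOf P.XA), Nat.card_congr e.toEquiv,
    card_alt6, Nat.card_congr (Subgroup.subgroupOfEquivOfLe hle).toEquiv, h32]

theorem card_M : Nat.card D.S.M = 9797760 := by
  have h := D.S.M.card_mul_index
  rw [D.index_M, D.card_L] at h
  omega

theorem EA_not_le : ¬ P.EA ≤ D.S.M := by
  intro hle
  obtain ⟨-, -, hn, ⟨e⟩⟩ := P.struct
  haveI := D.S.M_normal
  haveI := isSimpleGroup_alt6
  let χ : P.XA →* (Subgroup.centralizer ({z} : Set G) ⧸ Q) ⧸ D.S.M := (QuotientGroup.mk' D.S.M).comp P.XA.subtype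
  let χ' := (QuotientGroup.lift (P.EA.subgroupOf P.XA) χ fun u hu =>
    MonoidHom.mem_ker.2 ((QuotientGroup.eq_one_iff _).2 (hle hu))).comp e.symm.toMonoidHom
  have htriv : χ'.ker = ⊤ := by
    refine (Subgroup.Normal.eq_bot_or_eq_top χ'.normal_ker).resolve_left fun h => ?_
    have hc := Nat.card_le_card_of_injective _ ((MonoidHom.ker_eq_bot_iff _).1 h)
    rw [card_alt6, ← Subgroup.index_eq_card, D.index_M] at hc
    omega
  have hXM : P.XA ≤ D.S.M := fun u hu => by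
    have h := MonoidHom.mem_ker.1 (htriv ▸ Subgroup.mem_top (e (QuotientGroup.mk ⟨u, hu⟩)) : _ ∈ χ'.ker)
    simp only [χ', MonoidHom.comp_apply, MulEquiv.coe_toMonoidHom, MulEquiv.symm_apply_apply,
      QuotientGroup.lift_mk] at h
    exact (QuotientGroup.eq_one_iff _).1 h
  have hd := Subgroup.card_dvd_of_le hXM
  rw [P.card_XA, card_M] at hd
  norm_num at hd

theorem card_EA_inf : Nat.card ↥(P.EA ⊓ D.S.M) = 16 := by
  obtain ⟨h32, -, -, -⟩ := P.struct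
  haveI := D.S.M_normal
  let χ : P.EA →* (Subgroup.centralizer ({z} : Set G) ⧸ Q) ⧸ D.S.M := (QuotientGroup.mk' D.S.M).comp P.EA.subtype
  have hker : χ.ker = (P.EA ⊓ D.S.M).subgroupOf P.EA := by
    ext u
    simp only [MonoidHom.mem_ker, χ, MonoidHom.comp_apply, QuotientGroup.mk'_apply, QuotientGroup.eq_one_iff,
      Subgroup.mem_subgroupOf, Subgroup.mem_inf]
    exact ⟨fun h => ⟨u.2, h⟩, fun h => h.2⟩
  have h := χ.ker.card_mul_index
  rw [Subgroup.index_ker, h32, hker,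
    Nat.card_congr (Subgroup.subgroupOfEquivOfLe (H := P.EA ⊓ D.S.M) inf_le_left).toEquiv] at h
  have h1 : Nat.card χ.range ∣ 2 := by
    have h := Subgroup.card_subgroup_dvd_card χ.range
    rwa [← Subgroup.index_eq_card, D.index_M] at h
  rcases (Nat.dvd_prime Nat.prime_two).1 h1 with e | e
  · refine absurd (fun u hu => ?_) P.EA_not_le
    have hbot := Subgroup.eq_bot_of_card_eq _ e
    have : χ ⟨u, hu⟩ ∈ χ.range := ⟨_, rfl⟩
    rw [hbot, Subgroup.mem_bot] at this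
    exact (QuotientGroup.eq_one_iff u).1 this
  · rw [e] at h; omega

/-- Classes fixing `a` and in `M` come from `C(V)`. -/
theorem exists_ψ {l : Subgroup.centralizer ({z} : Set G) ⧸ Q} (hl : l ∈ P.XA) (hM : l ∈ D.S.M) :
    ∃ c : P.CV, P.ψ c = l := by
  haveI : Finite (Additive (Abelianization Q)) := Finite.of_equiv _ D.coord.Ψ.toEquiv
  obtain ⟨c, ⟨-, hcA⟩, rfl⟩ := hl
  rw [QuotientGroup.mk'_apply] at hM
  have hcA' : (c : G) * P.A * (c : G)⁻¹ = P.A :=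
    mul_inv_eq_iff_eq_mul.2 (Subgroup.mem_centralizer_singleton_iff.1 hcA)
  have hones : D.coord.act (QuotientGroup.mk c) ones = ones := by
    rw [← P.ha, ← FD.vec_conj]
    exact congrArg D.vec (Subtype.ext (Subtype.ext hcA'))
  have hv : D.vec (MulAut.conjNormal c P.bQ) = D.vec P.bQ := by
    rw [FD.vec_conj, P.vec_bQ, ← nu_ones_facts.1, D.coord.act_nu_comm (D.S.n_central _ hM), hones]
  rcases (FD.vec_eq_iff D).1 hv.symm with h | h
  · exact ⟨⟨c, P.cent_V_iff.2 ⟨Subgroup.mem_centralizer_singleton_iff.1 c.2, hcA', h⟩⟩, rfl⟩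
  · obtain ⟨r, hr⟩ := FD.exists_vec D ![(1, 0), 0, 0, 0, 0, 0]
    have hrA : inG z Q r * P.A * (inG z Q r)⁻¹ = P.A := by
      refine mul_inv_eq_iff_eq_mul.2 ((FD.commute_iff_wt D r P.a).2 ?_)
      rw [hr, P.ha]; exact head_ones
    have hrB : inG z Q r * P.B * (inG z Q r)⁻¹ = P.B * z := by
      refine (D.good.comm _ (FData.mem_map r) _ (FData.mem_map P.bQ)).resolve_left fun e => ?_
      have h' := (FD.commute_iff_wt D r P.bQ).1 (mul_inv_eq_iff_eq_mul.1 e)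
      rw [hr, P.vec_bQ] at h'
      exact head_mover (0, 1) (Or.inl rfl) h'
    have hrz : inG z Q r * z * (inG z Q r)⁻¹ = z :=
      mul_inv_eq_iff_eq_mul.2 (D.good.le_cent _ (FData.mem_map r))
    refine ⟨⟨inG z Q r * c, P.cent_V_iff.2 ⟨?_, ?_, ?_⟩⟩, ?_⟩
    · exact Subgroup.mem_centralizer_singleton_iff.1 (r.1 * c).2
    · calc inG z Q r * (c : G) * P.A * (inG z Q r * (c : G))⁻¹
          = inG z Q r * ((c : G) * P.A * (c : G)⁻¹) * (inG z Q r)⁻¹ := by group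
        _ = P.A := by rw [hcA', hrA]
    · have h' : (c : G) * P.B * (c : G)⁻¹ = P.B * z := h
      calc inG z Q r * (c : G) * P.B * (inG z Q r * (c : G))⁻¹
          = (inG z Q r * P.B * (inG z Q r)⁻¹) *
              (inG z Q r * (P.B⁻¹ * ((c : G) * P.B * (c : G)⁻¹)) * (inG z Q r)⁻¹) := by group
        _ = P.B := by rw [h', inv_mul_cancel_left, hrz, hrB, mul_assoc, D.good.x_sq, mul_one]
    · show QuotientGroup.mk' Q (r.1 * c) = QuotientGroup.mk' Q c
      rw [map_mul, QuotientGroup.mk'_apply, (QuotientGroup.eq_one_iff r.1).2 r.2, one_mul]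

theorem ψ_mem_XA (c : P.CV) : P.ψ c ∈ P.XA :=
  ⟨Subgroup.inclusion P.CV_le c, ⟨(Subgroup.inclusion P.CV_le c).2,
    Subgroup.mem_centralizer_singleton_iff.2 (mul_inv_eq_iff_eq_mul.1 (P.cent_V_iff.1 c.2).2.1)⟩, rfl⟩

/-- The radical of `C(V)` inside it. -/
def Rs : Subgroup P.CV := P.EA.comap P.ψ

/-- The radical as a subgroup of the group. -/
def R : Subgroup G := P.Rs.map P.CV.subtype

theorem exists_alt : ∃ φ : P.CV →* alternatingGroup (Fin 6), Function.Surjective φ ∧ φ.ker = P.Rs := by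
  obtain ⟨-, hle, hn, ⟨e⟩⟩ := P.struct
  let χ : P.CV →* P.XA := P.ψ.codRestrict _ P.ψ_mem_XA
  refine ⟨e.toMonoidHom.comp ((QuotientGroup.mk' (P.EA.subgroupOf P.XA)).comp χ), fun σ => ?_, ?_⟩
  · obtain ⟨u, hu⟩ := QuotientGroup.mk_surjective (e.symm σ)
    obtain ⟨w, hw, hwM⟩ : ∃ w ∈ P.EA, w ∉ D.S.M := Set.not_subset.1 P.EA_not_le
    by_cases huM : (u : Subgroup.centralizer ({z} : Set G) ⧸ Q) ∈ D.S.M
    · obtain ⟨c, hc⟩ := P.exists_ψ u.2 huM
      refine ⟨c, ?_⟩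
      show e (QuotientGroup.mk (χ c)) = σ
      rw [show χ c = u from Subtype.ext hc, hu, MulEquiv.apply_symm_apply]
    · obtain ⟨c, hc⟩ := P.exists_ψ (mul_mem u.2 (hle hw))
        ((Subgroup.mul_mem_iff_of_index_two D.index_M).2 (iff_of_false huM hwM))
      refine ⟨c, ?_⟩
      show e (QuotientGroup.mk (χ c)) = σ
      rw [show χ c = u * ⟨w, hle hw⟩ from Subtype.ext hc, QuotientGroup.mk_mul,
        (QuotientGroup.eq_one_iff (⟨w, hle hw⟩ : P.XA)).2 hw, mul_one, hu, MulEquiv.apply_symm_apply]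
  · ext c
    rw [MonoidHom.mem_ker]
    show e (QuotientGroup.mk (χ c)) = 1 ↔ _
    rw [MulEquiv.map_eq_one_iff, QuotientGroup.eq_one_iff]
    rfl

theorem ψ_ker_iff (c : P.CV) : P.ψ c = 1 ↔ (c : G) ∈ Q.map (Subgroup.centralizer ({z} : Set G)).subtype :=
  (QuotientGroup.eq_one_iff _).trans (mem_map_iff (Subgroup.inclusion P.CV_le c)).symm

theorem nz_sum_iff (q : Q) : inG z Q q ∈ P.CV ↔ ∑ i, D.vec q i = 0 := by
  rw [P.cent_V_iff, ← ones_ortho, mul_inv_eq_iff_eq_mul, mul_inv_eq_iff_eq_mul]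
  constructor
  · rintro ⟨-, hA, hB⟩
    have h1 := (FD.commute_iff_wt D q P.a).1 hA
    have h2 := (FD.commute_iff_wt D q P.bQ).1 hB
    rw [P.ha] at h1
    rw [P.vec_bQ, ← nu_ones_facts.1] at h2
    refine ⟨?_, ?_⟩
    · rw [h1, Nat.add_mod, show wt ones % 2 = 0 by decide +kernel, add_zero, Nat.mod_mod]
    · rw [h2, Nat.add_mod, show wt (fun i => nuK (ones i)) % 2 = 0 by decide +kernel, add_zero, Nat.mod_mod]
  · rintro ⟨h1, h2⟩
    refine ⟨D.good.le_cent _ (FData.mem_map q), (FD.commute_iff_wt D q P.a).2 ?_,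
      (FD.commute_iff_wt D q P.bQ).2 ?_⟩
    · rw [P.ha, h1, Nat.add_mod, show wt ones % 2 = 0 by decide +kernel, add_zero, Nat.mod_mod]
    · rw [P.vec_bQ, ← nu_ones_facts.1, h2, Nat.add_mod, show wt (fun i => nuK (ones i)) % 2 = 0 by decide +kernel,
        add_zero, Nat.mod_mod]

theorem card_ψ_ker : Nat.card P.ψ.ker = 2 ^ 11 := by
  let S : Q →* Multiplicative K4 :=
    { toFun := fun q => Multiplicative.ofAdd (∑ i, D.vec q i)
      map_one' := by
        rw [(D.vec_eq_zero_iff 1).2 (Or.inl rfl)]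
        simp
      map_mul' := fun p q => by
        rw [← ofAdd_add, ← Finset.sum_add_distrib, FD.vec_mul]
        rfl }
  have hS : Function.Surjective S := fun p => by
    obtain ⟨q, hq⟩ := FD.exists_vec D (Pi.single 0 p.toAdd)
    refine ⟨q, ?_⟩
    show Multiplicative.ofAdd (∑ i, D.vec q i) = p
    rw [hq, Finset.sum_pi_single', if_pos (Finset.mem_univ _)]
    rfl
  have h := S.ker.card_mul_index
  rw [Subgroup.index_ker, MonoidHom.range_eq_top.2 hS, Subgroup.card_top, D.card,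
    show Nat.card (Multiplicative K4) = 4 by simp [Nat.card_eq_fintype_card]] at h
  have hsum : ∀ q : Q, q ∈ S.ker ↔ ∑ i, D.vec q i = 0 := fun q => by
    rw [MonoidHom.mem_ker]; exact Multiplicative.ofAdd.apply_eq_iff_eq (y := (0 : K4))
  have e : Nat.card P.ψ.ker = Nat.card S.ker := by
    refine (Nat.card_eq_of_bijective (fun q => (⟨⟨inG z Q q.1, (P.nz_sum_iff q.1).2 ((hsum q.1).1 q.2)⟩,
      (P.ψ_ker_iff _).2 (FData.mem_map q.1)⟩ : P.ψ.ker)) ⟨?_, ?_⟩).symm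
    · intro p q hpq
      exact Subtype.ext (Subtype.ext (Subtype.ext (congrArg (fun c : P.ψ.ker => ((c : P.CV) : G)) hpq)))
    · rintro ⟨⟨c, hc⟩, hk⟩
      obtain ⟨q, hq, rfl⟩ := (P.ψ_ker_iff ⟨c, hc⟩).1 hk
      exact ⟨⟨⟨q, hq⟩, (hsum _).2 ((P.nz_sum_iff ⟨q, hq⟩).1 hc)⟩, rfl⟩
  rw [e]
  omega

theorem card_Rs : Nat.card P.Rs = 2 ^ 15 := by
  obtain ⟨-, hle, -, -⟩ := P.struct
  let χ : P.Rs →* Subgroup.centralizer ({z} : Set G) ⧸ Q := P.ψ.comp P.Rs.subtype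
  have hr : χ.range = P.EA ⊓ D.S.M := by
    refine le_antisymm ?_ fun l hl => ?_
    · rintro _ ⟨c, rfl⟩
      exact ⟨c.2, P.ψ_mem_M c.1⟩
    · obtain ⟨c, rfl⟩ := P.exists_ψ (hle hl.1) hl.2
      exact ⟨⟨c, hl.1⟩, rfl⟩
  have hk : Nat.card χ.ker = Nat.card P.ψ.ker := Nat.card_congr
    { toFun := fun c => ⟨c.1.1, c.2⟩
      invFun := fun c => ⟨⟨c.1, show P.ψ c.1 ∈ P.EA by rw [MonoidHom.mem_ker.1 c.2]; exact one_mem _⟩, c.2⟩
      left_inv := fun _ => rfl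
      right_inv := fun _ => rfl }
  have h := χ.ker.card_mul_index
  rw [Subgroup.index_ker, hr, hk, P.card_ψ_ker, P.card_EA_inf] at h
  omega

theorem card_R : Nat.card P.R = 2 ^ 15 := by
  rw [← P.card_Rs]
  exact (Nat.card_congr (P.Rs.equivMapOfInjective _ P.CV.subtype_injective).toEquiv).symm

theorem mem_R {c : G} : c ∈ P.R ↔ ∃ h : c ∈ P.CV, P.ψ ⟨c, h⟩ ∈ P.EA :=
  ⟨fun ⟨d, hd, e⟩ => e ▸ ⟨d.2, hd⟩, fun ⟨h, hc⟩ => ⟨⟨c, h⟩, hc, rfl⟩⟩

theorem atA_iff {v : G} :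
    v ∈ (Q.map (Subgroup.centralizer ({z} : Set G)).subtype).map (MulAut.conj P.g).toMonoidHom ↔
      InAt Q P.A v := by
  rw [FD.inAt_map_iff D, P.hgA]

theorem T_mem_CV {t : G} (ht : P.T t) : t ∈ P.CV := by
  refine P.cent_V_iff.2 ⟨P.T_comm ht P.T_z, ?_, ?_⟩
  · exact mul_inv_eq_iff_eq_mul.2 (P.T_comm ht P.T_A)
  · exact mul_inv_eq_iff_eq_mul.2 (P.T_comm ht P.T_B)

theorem T_mem_R {t : G} (ht : P.T t) : t ∈ P.R := by
  refine P.mem_R.2 ⟨P.T_mem_CV ht, ⟨Subgroup.inclusion P.CV_le ⟨t, P.T_mem_CV ht⟩, ⟨P.atA_iff.2 ht.1, ?_⟩, rfl⟩⟩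
  exact P.CV_le (P.T_mem_CV ht)

theorem card_T : Nat.card ↥(atSub Q P.A ⊓ atSub Q P.B) = 2 ^ 7 := by
  obtain ⟨g, hg1, hg2⟩ := P.exists_swap
  obtain ⟨b, p, hb, hbv, hp⟩ := P.vec_image hg1 hg2
  set τ : G := g * ((P.x : G) * P.g)
  have hτ : τ * z * τ⁻¹ = inG z Q b := by
    rw [hb, ← P.B_conj]
    simp only [τ]
    group
  have hbz : inG z Q b ≠ z := fun e => by
    have h := FD.vec_z D e
    rw [hbv] at h
    rcases hp with rfl | rfl <;> exact absurd h (by decide +kernel)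
  have h := (S5442.result z Q P.hF (inG z Q b) ⟨b.1.2, b.2⟩ (isConj_iff.2 ⟨τ, hτ⟩) hbz τ hτ _ _ rfl rfl).2.1
  rw [← h]
  refine Nat.card_congr
    { toFun := fun t => ⟨g * t.1 * g⁻¹, ?_, ?_⟩
      invFun := fun v => ⟨g⁻¹ * v.1 * g, ?_, ?_⟩
      left_inv := fun t => Subtype.ext (by group)
      right_inv := fun v => Subtype.ext (by group) }
  · refine (FD.inAt_z D).1 ?_
    have h := t.2.1.conj g
    rwa [hg2] at h
  · refine (FD.inAt_map_iff D).2 ?_
    have h := t.2.2.conj g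
    rwa [← hb, ← hτ] at h
  · have h := ((FD.inAt_z D).2 v.2.1).conj g⁻¹
    rw [inv_inv, show g⁻¹ * z * g = P.A from (congrArg (fun u => g⁻¹ * u * g) hg2.symm).trans (by group)] at h
    exact h
  · have h := ((FD.inAt_map_iff D).1 v.2.2).conj g⁻¹
    rw [inv_inv, hτ, hb, show g⁻¹ * (g * P.B * g⁻¹) * g = P.B by group] at h
    exact h

/-- Every element of the radical is a product from `Q` and `T`. -/
theorem R_decomp {c : G} (hc : c ∈ P.R) :
    ∃ (q : Q) (t : G), inG z Q q ∈ P.CV ∧ P.T t ∧ c = inG z Q q * t := by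
  obtain ⟨hcV, hE⟩ := P.mem_R.1 hc
  have hTle : atSub Q P.A ⊓ atSub Q P.B ≤ P.CV := fun _ ht => P.T_mem_CV ht
  let χ : ↥(atSub Q P.A ⊓ atSub Q P.B) →* Subgroup.centralizer ({z} : Set G) ⧸ Q :=
    P.ψ.comp (Subgroup.inclusion hTle)
  have hk : Nat.card χ.ker = 8 := by
    rw [← P.card_V]
    exact Nat.card_congr
      { toFun := fun t => ⟨t.1.1, P.mem_V.2 ⟨(P.ψ_ker_iff _).1 t.2, t.1.2⟩⟩
        invFun := fun v => ⟨⟨v.1, (P.mem_V.1 v.2).2⟩, (P.ψ_ker_iff _).2 (P.mem_V.1 v.2).1⟩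
        left_inv := fun _ => rfl
        right_inv := fun _ => rfl }
  have h := χ.ker.card_mul_index
  rw [Subgroup.index_ker, hk, P.card_T] at h
  have hle : χ.range ≤ P.EA ⊓ D.S.M := by
    rintro _ ⟨t, rfl⟩
    obtain ⟨_, ht⟩ := P.mem_R.1 (P.T_mem_R t.2)
    exact ⟨ht, P.ψ_mem_M _⟩
  have heq := Subgroup.eq_of_le_of_card_ge hle (by rw [P.card_EA_inf]; omega)
  obtain ⟨t, ht⟩ : P.ψ ⟨c, hcV⟩ ∈ χ.range := heq ▸ ⟨hE, P.ψ_mem_M _⟩
  have hq : P.ψ (⟨c, hcV⟩ * (Subgroup.inclusion hTle t)⁻¹) = 1 := by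
    rw [map_mul, map_inv, ← ht]
    exact mul_inv_cancel _
  obtain ⟨q, hq', he⟩ := (P.ψ_ker_iff _).1 hq
  refine ⟨⟨q, hq'⟩, t.1, ?_, t.2, ?_⟩
  · show (q : G) ∈ P.CV
    rw [show (q : G) = c * (t.1)⁻¹ from he]
    exact mul_mem hcV (inv_mem (hTle t.2))
  · show c = (q : G) * t.1
    rw [show (q : G) = c * (t.1)⁻¹ from he, inv_mul_cancel_right]

theorem V_le_R : P.V ≤ P.R := fun _ hv => P.T_mem_R (P.mem_V.1 hv).2

theorem R_le_CV : P.R ≤ P.CV := Subgroup.map_subtype_le _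

theorem qQ_mem_R {q : Q} (hq : inG z Q q ∈ P.CV) : inG z Q q ∈ P.R :=
  P.mem_R.2 ⟨hq, by rw [(P.ψ_ker_iff ⟨_, hq⟩).2 (FData.mem_map q)]; exact one_mem _⟩

theorem commutator_T_Q {q : Q} (hq : inG z Q q ∈ P.CV) {t : G} (ht : P.T t) :
    inG z Q q * t * (inG z Q q)⁻¹ * t⁻¹ ∈ P.V := by
  refine P.mem_V.2 ⟨?_, ?_⟩
  · have htz : t * z = z * t := P.T_comm ht P.T_z
    have h := D.good.norm t htz _ (inv_mem (FData.mem_map q))
    have h' := mul_mem (FData.mem_map q) h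
    rwa [show inG z Q q * (t * (inG z Q q)⁻¹ * t⁻¹) = inG z Q q * t * (inG z Q q)⁻¹ * t⁻¹ by group] at h'
  · obtain ⟨-, hA, hB⟩ := P.cent_V_iff.1 hq
    exact ⟨(ht.1.conj_fix hA).mul ht.1.inv, (ht.2.conj_fix hB).mul ht.2.inv⟩

theorem center_R {c : G} (hc : c ∈ P.R) (hcomm : ∀ d ∈ P.R, c * d = d * c) : c ∈ P.V := by
  obtain ⟨q, t, hq, ht, rfl⟩ := P.R_decomp hc
  obtain ⟨hδ0, -, hpair, hconst⟩ := P.δ_spec
  -- `t` centralises `Q ∩ Q_a`
  have htI : ∀ v : Q, InAt Q P.A (inG z Q v) → t * inG z Q v * t⁻¹ = inG z Q v := by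
    intro v hv
    have hvs : inG z Q v ∈ P.CV := by
      refine (P.nz_sum_iff v).2 ?_
      have h := ((P.common_iff _).1 ⟨v, rfl, hv⟩).2
      rwa [Finset.sum_add_distrib, const_sum, add_zero] at h
    have hcv := hcomm _ (P.qQ_mem_R hvs)
    have h := FD.inAt_comm D (g := P.g) (P.hgA.symm ▸ ht.1) (P.hgA.symm ▸ hv)
    rw [P.hgA] at h
    refine h.resolve_right fun e => ?_
    have hA : inG z Q q * P.A * (inG z Q q)⁻¹ = P.A := (P.cent_V_iff.1 hq).2.1
    have e2 : inG z Q q * (inG z Q v * P.A) * (inG z Q q)⁻¹ = inG z Q v := by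
      rw [← e]
      calc inG z Q q * (t * inG z Q v * t⁻¹) * (inG z Q q)⁻¹
          = inG z Q q * t * inG z Q v * (inG z Q q * t)⁻¹ := by group
        _ = inG z Q v := mul_inv_eq_iff_eq_mul.2 hcv
    rw [show inG z Q q * (inG z Q v * P.A) * (inG z Q q)⁻¹ =
      (inG z Q q * inG z Q v * (inG z Q q)⁻¹) * (inG z Q q * P.A * (inG z Q q)⁻¹) by group, hA] at e2
    rcases D.good.comm _ (FData.mem_map q) _ (FData.mem_map v) with r | r <;> rw [r] at e2
    · have := mul_eq_left.1 e2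
      have h0 := (D.vec_eq_zero_iff P.a).2 (Or.inl this)
      rw [P.ha] at h0
      exact one_zero_ne (congrFun h0 0)
    · rw [mul_assoc] at e2
      have h0 := mul_eq_left.1 e2
      exact P.A_ne_z (mul_left_cancel (h0.trans D.good.x_sq.symm))
  -- transport to `Q`
  obtain ⟨g, hg1, hg2⟩ := P.exists_swap
  have hgi2 : g⁻¹ * z * g = P.A := (congrArg (fun u => g⁻¹ * u * g) hg2.symm).trans (by group)
  have hgi1 : g⁻¹ * P.A * g = z := by rw [← hg1]; group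
  have htg := ht.1.conj g
  rw [hg2] at htg
  obtain ⟨t', ht', hte⟩ := (FD.inAt_z D).1 htg
  have hwt : ∀ w : W6, Common D P.A w → wt (D.vec ⟨t', ht'⟩ + w) % 2 = (wt (D.vec ⟨t', ht'⟩) + wt w) % 2 := by
    rintro _ ⟨v, rfl, hv⟩
    refine (FD.commute_iff_wt D ⟨t', ht'⟩ v).1 ?_
    obtain ⟨v', hv', hve⟩ := (FD.inAt_z D).1 (show InAt Q z (g⁻¹ * inG z Q v * g) by
      have h := hv.conj g⁻¹
      rwa [inv_inv, hgi1] at h)
    have hv'' : InAt Q P.A (inG z Q ⟨v', hv'⟩) := by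
      have h := ((FD.inAt_z D).2 (FData.mem_map v)).conj g⁻¹
      rw [inv_inv, hgi2] at h
      exact (show inG z Q ⟨v', hv'⟩ = g⁻¹ * inG z Q v * g from hve) ▸ h
    have hk := mul_inv_eq_iff_eq_mul.1 (htI ⟨v', hv'⟩ hv'')
    rw [show inG z Q ⟨v', hv'⟩ = g⁻¹ * inG z Q v * g from hve] at hk
    show (t' : G) * inG z Q v = inG z Q v * (t' : G)
    rw [show (t' : G) = g * t * g⁻¹ from hte]
    calc g * t * g⁻¹ * inG z Q v = g * (t * (g⁻¹ * inG z Q v * g)) * g⁻¹ := by group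
      _ = _ := by rw [hk]; group
  have hone : wt (constW (1, 0)) % 2 = 0 := by decide +kernel
  have hev : wt (D.vec ⟨t', ht'⟩) % 2 = 0 := by
    refine (D.wt_vec_iff _).2 ?_
    show (t' : G) * (t' : G) = 1
    rw [show (t' : G) = g * t * g⁻¹ from hte, show g * t * g⁻¹ * (g * t * g⁻¹) = g * (t * t) * g⁻¹ by group,
      P.T_sq ht, mul_one, mul_inv_cancel]
  have hline : InLines P.δ (D.vec ⟨t', ht'⟩) := by
    have key : ∀ w, Common D P.A w → wt (D.vec ⟨t', ht'⟩ + w) % 2 = 0 := fun w hw => by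
      rw [hwt w hw, Nat.add_mod, hev, common_sq P.hg P.ha hw]
    obtain ⟨h0, h1, -, -⟩ := P.δ_spec
    rcases k4_cases P.δ with e | e | e | e
    · exact absurd e h0
    · exact absurd e h1
    · rw [e] at hpair ⊢
      exact inLines_of_ortho_omega _ hev (key _ (hconst _)) fun j hj => key _ (hpair 0 j (Ne.symm hj))
    · rw [e] at hpair ⊢
      exact inLines_of_ortho_bar _ hev (key _ (hconst _)) fun j hj => key _ (hpair 0 j (Ne.symm hj))
  obtain ⟨s, hs, hsA⟩ := (P.common_iff _).2 hline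
  have htA : InAt Q P.A (g * t * g⁻¹) := by
    rw [← show (t' : G) = g * t * g⁻¹ from hte]
    rcases (FD.vec_eq_iff D).1 hs with e | e
    · show InAt Q P.A (inG z Q ⟨t', ht'⟩)
      rw [e]; exact hsA
    · show InAt Q P.A (inG z Q ⟨t', ht'⟩)
      rw [e]; exact hsA.mul P.at_A_z
  have htz : InAt Q z t := by
    have h := htA.conj g⁻¹
    rwa [inv_inv, hgi1, show g⁻¹ * (g * t * g⁻¹) * g = t by group] at h
  have htV : t ∈ P.V := P.mem_V.2 ⟨(FD.inAt_z D).1 htz, ht⟩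
  refine mul_mem ?_ htV
  -- `q` centralises both `Q ∩ Q_a` and `Q ∩ Q_b`
  have hqcomm : ∀ d ∈ P.R, inG z Q q * d = d * inG z Q q := by
    intro d hd
    have h1 : Commute (inG z Q q * t) d := hcomm d hd
    have h2 : Commute t d := (Subgroup.mem_centralizer_iff.1 (P.R_le_CV hd) t htV)
    have h3 := h1.mul_left h2.inv_left
    rw [mul_inv_cancel_right] at h3
    exact h3
  obtain ⟨-, -, hpairs, -⟩ := P.δ_spec
  have hperp : ∀ w : W6, ∑ i, w i = 0 → wt (D.vec q + w) % 2 = (wt (D.vec q) + wt w) % 2 := by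
    intro w hw
    obtain ⟨v, hv⟩ := FD.exists_vec D w
    have hvs : inG z Q v ∈ P.CV := (P.nz_sum_iff v).2 (by rw [hv]; exact hw)
    have h := (FD.commute_iff_wt D q v).1 (hqcomm _ (P.qQ_mem_R hvs))
    rwa [hv] at h
  have hconstq : ∀ j : Fin 6, j ≠ 0 → D.vec q j = D.vec q 0 := by
    intro j hj
    have key : ∀ a b : K4, (∀ d : K4, nz2 (a + d) + nz2 (b + d) + nz2 a + nz2 b = 0) → b = a := by decide +kernel
    refine key _ _ fun d => ?_
    have hp : ∑ m, pairW 0 j d m = 0 := by simp [pairW, Finset.sum_add_distrib, k4_self]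
    have hwp : wt (pairW 0 j d) % 2 = 0 := by
      have h : ∀ (j : Fin 6) (d : K4), j ≠ 0 → wt (pairW 0 j d) % 2 = 0 := by decide +kernel
      exact h j d hj
    have h := hperp _ hp
    rw [Nat.add_mod, hwp, add_zero, Nat.mod_mod] at h
    have h' := (wt_mod_iff _ _).1 h
    rw [← pair_diff (D.vec q) hj d, h', CharTwo.add_self_eq_zero]
  refine P.mem_V_of_const (p := D.vec q 0) (funext fun j => ?_)
  rcases eq_or_ne j 0 with rfl | hj
  · rfl
  · exact hconstq j hj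

end Triple

end Cfsg.Agent.Lib.LargeFischerCover95
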