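import Mathlib
import Cfsg.Agent.Lib.LargeFischerCover95.Radical
import Cfsg.Agent.Lib.MonsterType.Held.Act

/-!
The normaliser of `V`: `SL₃(2) × A₆` over the special group of order `2^15`.
-/

set_option autoImplicit false

namespace Cfsg.Agent.Lib.LargeFischerCover95

open Cfsg.Agent.Lib
open Cfsg.Agent.Lib.FischerType
open scoped commutatorElement

local notation "SL32" => Matrix.SpecialLinearGroup (Fin 3) (ZMod 2)

/-- A transvection is conjugate by `Y` to one of three. -/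
def WordHit (Y T : Matrix (Fin 3) (Fin 3) (ZMod 2)) : Prop :=
  Y * Matrix.transvection 0 1 1 = T * Y ∨ Y * Matrix.transvection 0 2 1 = T * Y ∨
    Y * (Matrix.transvection 0 1 1 * Matrix.transvection 0 2 1) = T * Y

theorem trans_words : ∀ v0 v1 v2 : ZMod 2, (!![0, 1, v0; 1, 0, v1; 0, 0, v2] : Matrix (Fin 3) (Fin 3) (ZMod 2)).det = 1 →
    WordHit !![0, 1, v0; 1, 0, v1; 0, 0, v2] (Matrix.transvection 1 0 1) ∧
    WordHit !![0, 1, v0; 1, 0, v1; 0, 0, v2] (Matrix.transvection 1 2 1) ∧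
    WordHit (!![1, 0, 0; 0, 0, 1; 0, 1, 1] * !![0, 1, v0; 1, 0, v1; 0, 0, v2]) (Matrix.transvection 2 0 1) ∧
    WordHit (!![1, 0, 0; 0, 0, 1; 0, 1, 1] * !![0, 1, v0; 1, 0, v1; 0, 0, v2]) (Matrix.transvection 2 1 1) := by
  unfold WordHit
  intro v0 v1 v2
  rcases zmod_two_cases v0 with rfl | rfl <;> rcases zmod_two_cases v1 with rfl | rfl <;>
    rcases zmod_two_cases v2 with rfl | rfl <;> decide +kernel

theorem card_sl32 : Nat.card SL32 = 168 := by
  have h := LinGroup.card_SL_mul (F := ZMod 2) 3 (by norm_num)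
  simp [Fin.prod_univ_three] at h
  rw [Nat.card_eq_fintype_card, h]

theorem zmod2_det_unit : ∀ d d' : ZMod 2, d * d' = 1 → d = 1 := by decide

theorem head_omega : wt ((Pi.single 0 (0, 1) : W6) + constW (0, 1)) % 2 =
      (wt (Pi.single 0 (0, 1) : W6) + wt (constW (0, 1))) % 2 ∧
    ¬ (wt ((Pi.single 0 (0, 1) : W6) + ones) % 2 = (wt (Pi.single 0 (0, 1) : W6) + wt ones) % 2) := by
  decide +kernel

theorem noncommuting_pairs : ¬ (wt (pairW 0 1 (1, 0) + pairW 0 2 (0, 1)) % 2 =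
    (wt (pairW 0 1 (1, 0)) + wt (pairW 0 2 (0, 1))) % 2) ∧
    ∑ i, pairW 0 1 (1, 0) i = (0 : K4) ∧ ∑ i, pairW 0 2 (0, 1) i = (0 : K4) := by decide +kernel

variable {G : Type*} [Group G] [Finite G] {z : G} {Q : Subgroup (Subgroup.centralizer ({z} : Set G))} [Q.Normal]

namespace Triple

variable {D : FData z Q} (P : Triple D)

/-- Coordinates of `V`. -/
def eV (v : Fin 3 → ZMod 2) : G := z ^ (v 0).val * P.A ^ (v 1).val * P.B ^ (v 2).val

theorem eV_mem (v : Fin 3 → ZMod 2) : P.eV v ∈ P.V :=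
  mul_mem (mul_mem (pow_mem P.z_mem_V _) (pow_mem P.A_mem_V _)) (pow_mem P.B_mem_V _)

theorem eV_single : P.eV (Pi.single 0 1) = z ∧ P.eV (Pi.single 1 1) = P.A ∧ P.eV (Pi.single 2 1) = P.B := by
  simp [eV, ZMod.val_one]

theorem eV_add (u v : Fin 3 → ZMod 2) : P.eV (u + v) = P.eV u * P.eV v := by
  have hpow : ∀ w : G, w * w = 1 → ∀ a b : ZMod 2, w ^ (a + b).val = w ^ a.val * w ^ b.val := by
    intro w hw a b
    rcases zmod_two_cases a with rfl | rfl <;> rcases zmod_two_cases b with rfl | rfl <;>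
      simp [ZMod.val_one, CharTwo.add_self_eq_zero, hw]
  have hc : ∀ p q : G, p ∈ P.V → q ∈ P.V → Commute p q := fun p q hp hq =>
    P.T_comm (P.mem_V.1 hp).2 (P.mem_V.1 hq).2
  have h1 : Commute (P.A ^ (u 1).val) (z ^ (v 0).val) := hc _ _ (pow_mem P.A_mem_V _) (pow_mem P.z_mem_V _)
  have h2 : Commute (P.B ^ (u 2).val) (z ^ (v 0).val * P.A ^ (v 1).val) :=
    hc _ _ (pow_mem P.B_mem_V _) (mul_mem (pow_mem P.z_mem_V _) (pow_mem P.A_mem_V _))
  simp only [eV, Pi.add_apply]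
  rw [hpow z D.good.x_sq, hpow _ P.sq_A, hpow _ P.sq_B]
  calc _ = z ^ (u 0).val * (z ^ (v 0).val * P.A ^ (u 1).val) * P.A ^ (v 1).val *
        (P.B ^ (u 2).val * P.B ^ (v 2).val) := by group
    _ = z ^ (u 0).val * P.A ^ (u 1).val * ((z ^ (v 0).val * P.A ^ (v 1).val) * P.B ^ (u 2).val) *
        P.B ^ (v 2).val := by rw [← h1.eq]; group
    _ = _ := by rw [← h2.eq]; group

theorem eV_bijective : Function.Bijective fun v => (⟨P.eV v, P.eV_mem v⟩ : P.V) := by
  haveI : Fintype P.V := Fintype.ofFinite _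
  refine (Fintype.bijective_iff_surjective_and_card _).2 ⟨?_, ?_⟩
  · rintro ⟨w, hw⟩
    obtain ⟨q, p, rfl, hq⟩ := P.V_rep hw
    have hz : ∀ u ∈ P.V, u * z = z * u := fun u hu => P.T_comm (P.mem_V.1 hu).2 P.T_z
    rcases P.const_cases_V hq with (e | e) | (e | e) | (e | e) | (e | e)
    · exact ⟨0, Subtype.ext (by simp [eV, e])⟩
    · exact ⟨![1, 0, 0], Subtype.ext (by simp [eV, e, ZMod.val_one])⟩
    · exact ⟨![0, 1, 0], Subtype.ext (by simp [eV, e, ZMod.val_one])⟩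
    · exact ⟨![1, 1, 0], Subtype.ext (by simp [eV, e, ZMod.val_one, hz _ P.A_mem_V])⟩
    · exact ⟨![0, 0, 1], Subtype.ext (by simp [eV, e, ZMod.val_one])⟩
    · exact ⟨![1, 0, 1], Subtype.ext (by simp [eV, e, ZMod.val_one, hz _ P.B_mem_V])⟩
    · exact ⟨![0, 1, 1], Subtype.ext (by simp [eV, e, ZMod.val_one])⟩
    · exact ⟨![1, 1, 1], Subtype.ext (by
        simp [eV, e, ZMod.val_one, hz _ (mul_mem P.A_mem_V P.B_mem_V), mul_assoc])⟩
  · have h := P.card_V
    rw [Nat.card_eq_fintype_card] at h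
    rw [h]
    rfl

/-- The inverse coordinates. -/
noncomputable def coordV (w : P.V) : Fin 3 → ZMod 2 := (Equiv.ofBijective _ P.eV_bijective).symm w

theorem eV_coordV (w : P.V) : P.eV (P.coordV w) = w :=
  congrArg Subtype.val ((Equiv.ofBijective _ P.eV_bijective).apply_symm_apply w)

theorem eV_injective {u v : Fin 3 → ZMod 2} (h : P.eV u = P.eV v) : u = v :=
  P.eV_bijective.1 (Subtype.ext h)

/-- The normaliser of `V`. -/
abbrev N : Subgroup G := Subgroup.normalizer (P.V : Set G)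

theorem conj_mem_V (l : P.N) {v : G} (hv : v ∈ P.V) : (l : G) * v * (l : G)⁻¹ ∈ P.V :=
  (Subgroup.mem_normalizer_iff.1 l.2 v).1 hv

/-- Conjugation in coordinates. -/
noncomputable def actV (l : P.N) (v : Fin 3 → ZMod 2) : Fin 3 → ZMod 2 :=
  P.coordV ⟨_, P.conj_mem_V l (P.eV_mem v)⟩

theorem eV_actV (l : P.N) (v : Fin 3 → ZMod 2) : P.eV (P.actV l v) = (l : G) * P.eV v * (l : G)⁻¹ :=
  P.eV_coordV _

/-- Conjugation as a linear map. -/
noncomputable def linV (l : P.N) : (Fin 3 → ZMod 2) →ₗ[ZMod 2] (Fin 3 → ZMod 2) :=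
  AddMonoidHom.toZModLinearMap 2 (AddMonoidHom.mk' (P.actV l) fun u v => P.eV_injective (by
    rw [P.eV_actV, P.eV_add, P.eV_add, P.eV_actV, P.eV_actV]; group))

theorem linV_mul (l m : P.N) : P.linV (l * m) = P.linV l ∘ₗ P.linV m :=
  LinearMap.ext fun v => P.eV_injective (by
    show P.eV (P.actV (l * m) v) = P.eV (P.actV l (P.actV m v))
    rw [P.eV_actV, P.eV_actV, P.eV_actV, Subgroup.coe_mul]; group)

theorem linV_one : P.linV 1 = LinearMap.id :=
  LinearMap.ext fun v => P.eV_injective (by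
    show P.eV (P.actV 1 v) = P.eV v
    rw [P.eV_actV, Subgroup.coe_one]; group)

theorem det_linV (l : P.N) : (LinearMap.toMatrix' (P.linV l)).det = 1 := by
  refine zmod2_det_unit _ (LinearMap.toMatrix' (P.linV l⁻¹)).det ?_
  rw [← Matrix.det_mul, ← LinearMap.toMatrix'_comp, ← linV_mul, mul_inv_cancel, linV_one, LinearMap.toMatrix'_id,
    Matrix.det_one]

/-- The action on `V`. -/
noncomputable def σV : P.N →* SL32 where
  toFun l := ⟨LinearMap.toMatrix' (P.linV l), P.det_linV l⟩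
  map_one' := Subtype.ext (by
    show LinearMap.toMatrix' (P.linV 1) = 1
    rw [linV_one, LinearMap.toMatrix'_id])
  map_mul' l m := Subtype.ext (by
    show LinearMap.toMatrix' (P.linV (l * m)) = _
    rw [linV_mul, LinearMap.toMatrix'_comp]; rfl)

theorem σV_col (l : P.N) (j : Fin 3) (v : Fin 3 → ZMod 2)
    (h : (l : G) * P.eV (Pi.single j 1) * (l : G)⁻¹ = P.eV v) (i : Fin 3) : (P.σV l).1 i j = v i := by
  show LinearMap.toMatrix' (P.linV l) i j = v i
  have e : P.linV l (Pi.single j 1) = v := P.eV_injective ((P.eV_actV l _).trans h)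
  rw [← e, LinearMap.toMatrix'_apply]

theorem σV_ker (l : P.N) : P.σV l = 1 ↔ (l : G) ∈ P.CV := by
  constructor
  · intro h
    have h' : P.linV l = LinearMap.id := LinearMap.toMatrix'.injective (by
      rw [LinearMap.toMatrix'_id]; exact congrArg Subtype.val h)
    refine Subgroup.mem_centralizer_iff.2 fun w hw => ?_
    obtain ⟨v, hv⟩ := P.eV_bijective.2 ⟨w, hw⟩
    have hv' : P.eV v = w := congrArg Subtype.val hv
    have h'' := (P.eV_actV l v).symm.trans (congrArg P.eV (LinearMap.congr_fun h' v))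
    rw [LinearMap.id_apply, hv'] at h''
    exact (mul_inv_eq_iff_eq_mul.1 h'').symm
  · intro h
    have h' : P.linV l = LinearMap.id := LinearMap.ext fun v => P.eV_injective (by
      show P.eV (P.actV l v) = P.eV v
      rw [P.eV_actV]
      exact mul_inv_eq_iff_eq_mul.2 (Subgroup.mem_centralizer_iff.1 h _ (P.eV_mem v)).symm)
    refine Subtype.ext ?_
    show LinearMap.toMatrix' (P.linV l) = 1
    rw [h', LinearMap.toMatrix'_id]

theorem mem_N {l : G} (hz : l * z * l⁻¹ ∈ P.V) (hA : l * P.A * l⁻¹ ∈ P.V) (hB : l * P.B * l⁻¹ ∈ P.V) :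
    l ∈ P.N := by
  have hle : P.V.map (MulAut.conj l).toMonoidHom ≤ P.V := by
    rintro _ ⟨v, hv, rfl⟩
    obtain ⟨u, hu⟩ := P.eV_bijective.2 ⟨v, hv⟩
    have hu' : P.eV u = v := congrArg Subtype.val hu
    rw [← hu', eV, map_mul, map_mul, map_pow, map_pow, map_pow]
    exact mul_mem (mul_mem (pow_mem hz _) (pow_mem hA _)) (pow_mem hB _)
  have heq : P.V.map (MulAut.conj l).toMonoidHom = P.V := Subgroup.eq_of_le_of_card_ge hle
    (Nat.card_congr (P.V.equivMapOfInjective _ (MulAut.conj l).injective).toEquiv).le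
  refine Subgroup.mem_normalizer_iff.2 fun v => ⟨fun hv => hle ⟨v, hv, rfl⟩, fun hv => ?_⟩
  rw [← heq] at hv
  obtain ⟨u, hu, e⟩ := hv
  rwa [← (MulAut.conj l).injective e]

theorem x_mem_N : (P.x : G) ∈ P.N := by
  refine P.mem_N (P.x_z.symm ▸ P.z_mem_V) P.B_mem_V ?_
  rw [show (P.x : G) * P.B * (P.x : G)⁻¹ = P.A * P.B from P.C_eq]
  exact mul_mem P.A_mem_V P.B_mem_V

theorem Q_mem_N (q : Q) : inG z Q q ∈ P.N := by
  have hz : inG z Q q * z * (inG z Q q)⁻¹ = z := mul_inv_eq_iff_eq_mul.2 (D.good.le_cent _ (FData.mem_map q))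
  refine P.mem_N (hz.symm ▸ P.z_mem_V) ?_ ?_
  · rcases D.good.comm _ (FData.mem_map q) _ (FData.mem_map P.a) with e | e <;>
      rw [show inG z Q q * P.A * (inG z Q q)⁻¹ = _ from e]
    exacts [P.A_mem_V, mul_mem P.A_mem_V P.z_mem_V]
  · rcases D.good.comm _ (FData.mem_map q) _ (FData.mem_map P.bQ) with e | e <;>
      rw [show inG z Q q * P.B * (inG z Q q)⁻¹ = _ from e]
    exacts [P.B_mem_V, mul_mem P.B_mem_V P.z_mem_V]

theorem exists_swap_N : ∃ g : P.N, (g : G) * z * (g : G)⁻¹ = P.A ∧ (g : G) * P.A * (g : G)⁻¹ = z := by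
  obtain ⟨g, hg1, hg2⟩ := P.exists_swap
  obtain ⟨b, p, hb, hbv, -⟩ := P.vec_image hg1 hg2
  exact ⟨⟨g, P.mem_N (hg1.symm ▸ P.A_mem_V) (hg2.symm ▸ P.z_mem_V) (hb ▸ P.mem_V_of_const hbv)⟩, hg1, hg2⟩

theorem σV_Q {q : Q} (hA : inG z Q q * P.A * (inG z Q q)⁻¹ = P.A * z) (hB : inG z Q q * P.B * (inG z Q q)⁻¹ = P.B) :
    (P.σV ⟨_, P.Q_mem_N q⟩).1 = Matrix.transvection 0 1 1 := by
  have hz : inG z Q q * z * (inG z Q q)⁻¹ = z := mul_inv_eq_iff_eq_mul.2 (D.good.le_cent _ (FData.mem_map q))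
  obtain ⟨e0, e1, e2⟩ := P.eV_single
  have c0 := P.σV_col ⟨_, P.Q_mem_N q⟩ 0 (Pi.single 0 1) (by rw [e0]; exact hz)
  have c1 := P.σV_col ⟨_, P.Q_mem_N q⟩ 1 (Pi.single 1 1 + Pi.single 0 1) (by rw [P.eV_add, e1, e0]; exact hA)
  have c2 := P.σV_col ⟨_, P.Q_mem_N q⟩ 2 (Pi.single 2 1) (by rw [e2]; exact hB)
  ext i j
  fin_cases j
  · exact (c0 i).trans (by fin_cases i <;> rfl)
  · exact (c1 i).trans (by fin_cases i <;> rfl)
  · exact (c2 i).trans (by fin_cases i <;> rfl)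

theorem σV_Q' {q : Q} (hA : inG z Q q * P.A * (inG z Q q)⁻¹ = P.A) (hB : inG z Q q * P.B * (inG z Q q)⁻¹ = P.B * z) :
    (P.σV ⟨_, P.Q_mem_N q⟩).1 = Matrix.transvection 0 2 1 := by
  have hz : inG z Q q * z * (inG z Q q)⁻¹ = z := mul_inv_eq_iff_eq_mul.2 (D.good.le_cent _ (FData.mem_map q))
  obtain ⟨e0, e1, e2⟩ := P.eV_single
  have c0 := P.σV_col ⟨_, P.Q_mem_N q⟩ 0 (Pi.single 0 1) (by rw [e0]; exact hz)
  have c1 := P.σV_col ⟨_, P.Q_mem_N q⟩ 1 (Pi.single 1 1) (by rw [e1]; exact hA)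
  have c2 := P.σV_col ⟨_, P.Q_mem_N q⟩ 2 (Pi.single 2 1 + Pi.single 0 1) (by rw [P.eV_add, e2, e0]; exact hB)
  ext i j
  fin_cases j
  · exact (c0 i).trans (by fin_cases i <;> rfl)
  · exact (c1 i).trans (by fin_cases i <;> rfl)
  · exact (c2 i).trans (by fin_cases i <;> rfl)

theorem σV_x : (P.σV ⟨_, P.x_mem_N⟩).1 = !![1, 0, 0; 0, 0, 1; 0, 1, 1] := by
  obtain ⟨e0, e1, e2⟩ := P.eV_single
  have c0 := P.σV_col ⟨_, P.x_mem_N⟩ 0 (Pi.single 0 1) (by rw [e0]; exact P.x_z)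
  have c1 := P.σV_col ⟨_, P.x_mem_N⟩ 1 (Pi.single 2 1) (by rw [e1, e2]; rfl)
  have c2 := P.σV_col ⟨_, P.x_mem_N⟩ 2 (Pi.single 1 1 + Pi.single 2 1) (by rw [P.eV_add, e1, e2]; exact P.C_eq)
  ext i j
  fin_cases j
  · exact (c0 i).trans (by fin_cases i <;> rfl)
  · exact (c1 i).trans (by fin_cases i <;> rfl)
  · exact (c2 i).trans (by fin_cases i <;> rfl)

theorem exists_elations : (∃ q : Q, inG z Q q * P.A * (inG z Q q)⁻¹ = P.A * z ∧ inG z Q q * P.B * (inG z Q q)⁻¹ = P.B) ∧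
    ∃ q : Q, inG z Q q * P.A * (inG z Q q)⁻¹ = P.A ∧ inG z Q q * P.B * (inG z Q q)⁻¹ = P.B * z := by
  constructor
  · obtain ⟨q, hq⟩ := FD.exists_vec D (Pi.single 0 (0, 1))
    refine ⟨q, (D.good.comm _ (FData.mem_map q) _ (FData.mem_map P.a)).resolve_left fun e => ?_, ?_⟩
    · have h := (FD.commute_iff_wt D q P.a).1 (mul_inv_eq_iff_eq_mul.1 e)
      rw [hq, P.ha] at h
      exact head_omega.2 h
    · refine mul_inv_eq_iff_eq_mul.2 ((FD.commute_iff_wt D q P.bQ).2 ?_)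
      rw [hq, P.vec_bQ]; exact head_omega.1
  · obtain ⟨q, hq⟩ := FD.exists_vec D ![(1, 0), 0, 0, 0, 0, 0]
    refine ⟨q, ?_, (D.good.comm _ (FData.mem_map q) _ (FData.mem_map P.bQ)).resolve_left fun e => ?_⟩
    · refine mul_inv_eq_iff_eq_mul.2 ((FD.commute_iff_wt D q P.a).2 ?_)
      rw [hq, P.ha]; exact head_ones
    · have h := (FD.commute_iff_wt D q P.bQ).1 (mul_inv_eq_iff_eq_mul.1 e)
      rw [hq, P.vec_bQ] at h
      exact head_mover (0, 1) (Or.inl rfl) h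

theorem σV_surjective : Function.Surjective P.σV := by
  obtain ⟨⟨q1, h1a, h1b⟩, q2, h2a, h2b⟩ := P.exists_elations
  obtain ⟨g, hg1, hg2⟩ := P.exists_swap_N
  set S := P.σV.range with hS
  have key : ∀ (i j : Fin 3) (hij : i ≠ j) (y : SL32), y ∈ S → y.1 = Matrix.transvection i j 1 →
      Matrix.SpecialLinearGroup.transvection hij (1 : ZMod 2) ∈ S := by
    intro i j hij y hy e
    have : y = Matrix.SpecialLinearGroup.transvection hij 1 :=
      Subtype.ext (e.trans (LinGroup.coe_transvection hij 1).symm)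
    rwa [← this]
  obtain ⟨e0, e1, -⟩ := P.eV_single
  set a := P.σV ⟨_, P.Q_mem_N q1⟩ with ha
  set b := P.σV ⟨_, P.Q_mem_N q2⟩ with hb
  set X := P.σV ⟨_, P.x_mem_N⟩ with hX
  set M := P.σV g with hM
  have haS : a ∈ S := ⟨_, rfl⟩
  have hbS : b ∈ S := ⟨_, rfl⟩
  have hXS : X ∈ S := ⟨_, rfl⟩
  have hMS : M ∈ S := ⟨_, rfl⟩
  have hav : a.1 = Matrix.transvection 0 1 1 := P.σV_Q h1a h1b
  have hbv : b.1 = Matrix.transvection 0 2 1 := P.σV_Q' h2a h2b
  have hMv : M.1 = !![0, 1, M.1 0 2; 1, 0, M.1 1 2; 0, 0, M.1 2 2] := by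
    have c0 := P.σV_col g 0 (Pi.single 1 1) (by rw [e0, e1]; exact hg1)
    have c1 := P.σV_col g 1 (Pi.single 0 1) (by rw [e0, e1]; exact hg2)
    ext i j
    fin_cases j
    · exact (c0 i).trans (by fin_cases i <;> rfl)
    · exact (c1 i).trans (by fin_cases i <;> rfl)
    · fin_cases i <;> rfl
  have hdet := M.2
  rw [hMv] at hdet
  have hw := trans_words _ _ _ hdet
  rw [← hMv, ← P.σV_x, ← hX] at hw
  have conjc : ∀ (Y : SL32), Y ∈ S → ∀ (i j : Fin 3) (hij : i ≠ j),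
      WordHit Y.1 (Matrix.transvection i j 1) →
      Matrix.SpecialLinearGroup.transvection hij (1 : ZMod 2) ∈ S := by
    intro Y hY i j hij h
    obtain ⟨c, hc, he⟩ : ∃ c ∈ S, Y.1 * c.1 = Matrix.transvection i j 1 * Y.1 := by
      unfold WordHit at h
      rw [← hav, ← hbv] at h
      rcases h with h | h | h
      · exact ⟨a, haS, h⟩
      · exact ⟨b, hbS, h⟩
      · exact ⟨a * b, mul_mem haS hbS, h⟩
    have e : Y * c = Matrix.SpecialLinearGroup.transvection hij 1 * Y := Subtype.ext (by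
      rw [Matrix.SpecialLinearGroup.coe_mul, Matrix.SpecialLinearGroup.coe_mul, LinGroup.coe_transvection]
      exact he)
    rw [eq_mul_inv_of_mul_eq e.symm]
    exact mul_mem (mul_mem hY hc) (inv_mem hY)
  have hXM : (X * M).1 = X.1 * M.1 := rfl
  obtain ⟨w10, w12, w20, w21⟩ := hw
  refine MonoidHom.range_eq_top.1 (LinGroup.eq_top_of_transvection_mem _ fun i j hij c => ?_)
  rcases zmod_two_cases c with rfl | rfl
  · rw [show Matrix.SpecialLinearGroup.transvection hij (0 : ZMod 2) = 1 from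
      Subtype.ext ((LinGroup.coe_transvection hij 0).trans (Matrix.transvection_zero i j))]
    exact one_mem _
  fin_cases i <;> fin_cases j
  · exact absurd rfl hij
  · exact key _ _ hij a haS hav
  · exact key _ _ hij b hbS hbv
  · exact conjc M hMS _ _ hij w10
  · exact absurd rfl hij
  · exact conjc M hMS _ _ hij w12
  · exact conjc (X * M) (mul_mem hXS hMS) _ _ hij (by rw [hXM]; exact w20)
  · exact conjc (X * M) (mul_mem hXS hMS) _ _ hij (by rw [hXM]; exact w21)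
  · exact absurd rfl hij

theorem CV_le_N : P.CV ≤ P.N := fun c hc =>
  Subgroup.mem_normalizer_iff.2 fun v => by
    constructor
    · intro hv
      rwa [mul_inv_eq_iff_eq_mul.2 (Subgroup.mem_centralizer_iff.1 hc v hv).symm]
    · intro hv
      have h := Subgroup.mem_centralizer_iff.1 hc _ hv
      have e : c * v * c⁻¹ = v := by
        calc c * v * c⁻¹ = c⁻¹ * (c * (c * v * c⁻¹)) := by group
          _ = c⁻¹ * ((c * v * c⁻¹) * c) := by rw [h]
          _ = v := by group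
      rwa [e] at hv

theorem conj_CV (l : P.N) {c : G} (hc : c ∈ P.CV) : (l : G) * c * (l : G)⁻¹ ∈ P.CV := by
  refine Subgroup.mem_centralizer_iff.2 fun v hv => ?_
  have hv' : (l : G)⁻¹ * v * l ∈ P.V := by
    have h := P.conj_mem_V l⁻¹ hv
    simpa using h
  have h := Subgroup.mem_centralizer_iff.1 hc _ hv'
  calc v * ((l : G) * c * (l : G)⁻¹) = (l : G) * ((l : G)⁻¹ * v * l * c) * (l : G)⁻¹ := by group
    _ = _ := by rw [h]; group

theorem normal_two_le_R (S : Subgroup P.CV) [S.Normal] (hS : IsPGroup 2 S) : S ≤ P.Rs := by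
  obtain ⟨φ, hφ, hker⟩ := P.exists_alt
  haveI := isSimpleGroup_alt6
  haveI : Fact (Nat.Prime 2) := ⟨Nat.prime_two⟩
  rcases Subgroup.Normal.eq_bot_or_eq_top (Subgroup.Normal.map inferInstance φ hφ : (S.map φ).Normal) with h | h
  · rw [← hker]
    exact (Subgroup.map_eq_bot_iff S).1 h
  · exfalso
    obtain ⟨n, hn⟩ := (IsPGroup.iff_card).1 (hS.map φ)
    rw [h, Subgroup.card_top, card_alt6] at hn
    have h3 : 3 ∣ 2 ^ n := hn ▸ (by norm_num)
    exact absurd (Nat.prime_three.dvd_of_dvd_pow h3) (by norm_num)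

theorem Rs_isPGroup : IsPGroup 2 P.Rs := IsPGroup.of_card P.card_Rs

theorem conj_R (l : P.N) {c : G} (hc : c ∈ P.R) : (l : G) * c * (l : G)⁻¹ ∈ P.R := by
  obtain ⟨φ, -, hker⟩ := P.exists_alt
  haveI : P.Rs.Normal := hker ▸ φ.normal_ker
  let α : P.CV ≃* P.CV :=
    { toFun := fun d => ⟨_, P.conj_CV l d.2⟩
      invFun := fun d => ⟨_, P.conj_CV l⁻¹ d.2⟩
      left_inv := fun d => Subtype.ext (by simp [mul_assoc])
      right_inv := fun d => Subtype.ext (by simp [mul_assoc])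
      map_mul' := fun d d' => Subtype.ext (by simp [mul_assoc]) }
  haveI : (P.Rs.map α.toMonoidHom).Normal := Subgroup.Normal.map inferInstance _ α.surjective
  have hle := P.normal_two_le_R (P.Rs.map α.toMonoidHom) (P.Rs_isPGroup.map _)
  obtain ⟨d, hd, rfl⟩ := hc
  exact ⟨α d, hle ⟨d, hd, rfl⟩, rfl⟩

theorem R_normal : (P.R.subgroupOf P.N).Normal :=
  ⟨fun c hc l => P.conj_R l hc⟩

/-- The structure of the normaliser modulo `R`. -/
theorem exists_product : ∃ Φ : P.N →* SL32 × alternatingGroup (Fin 6),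
    Function.Surjective Φ ∧ Φ.ker = P.R.subgroupOf P.N := by
  classical
  obtain ⟨φ, hφ, hker⟩ := P.exists_alt
  haveI := MonsterType.Held.isSimpleGroup_SL32
  haveI := isSimpleGroup_alt6
  let cj : P.N → P.CV → P.CV := fun l d => ⟨_, P.conj_CV l d.2⟩
  have cj_mul : ∀ (l : P.N) d d', cj l (d * d') = cj l d * cj l d' := fun l d d' => Subtype.ext (by simp [cj, mul_assoc])
  have cj_comp : ∀ (l m : P.N) d, cj (l * m) d = cj l (cj m d) := fun l m d => Subtype.ext (by simp [cj, mul_assoc])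
  have hφR : ∀ (l : P.N) d d', φ d = φ d' → φ (cj l d) = φ (cj l d') := by
    intro l d d' h
    have h1 : ((d⁻¹ * d' : P.CV) : G) ∈ P.R := ⟨_, (hker ▸ MonoidHom.mem_ker.2 (by simp [h]) : d⁻¹ * d' ∈ P.Rs), rfl⟩
    obtain ⟨u, hu, he⟩ := P.conj_R l h1
    have hu1 : φ u = 1 := MonoidHom.mem_ker.1 (hker.symm ▸ hu)
    have e : cj l d' = cj l d * u := by
      refine Subtype.ext ?_
      show (l : G) * d' * (l : G)⁻¹ = (l : G) * d * (l : G)⁻¹ * (u : G)
      rw [show (u : G) = (l : G) * ((d : G)⁻¹ * d') * (l : G)⁻¹ from he]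
      group
    rw [e, map_mul, hu1, mul_one]
  let K : Subgroup P.N :=
    { carrier := {l | ∀ d, φ (cj l d) = φ d}
      one_mem' := fun d => congrArg φ (Subtype.ext (by simp [cj]))
      mul_mem' := fun {l m} hl hm d => by rw [cj_comp, hl, hm]
      inv_mem' := fun {l} hl d => by
        have h := hl (cj l⁻¹ d)
        rw [← cj_comp, mul_inv_cancel, show cj 1 d = d from Subtype.ext (by simp [cj])] at h
        exact h.symm }
  haveI hKn : K.Normal := ⟨fun l hl m d => by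
    rw [cj_comp, cj_comp]
    refine (hφR m _ _ (hl (cj m⁻¹ d))).trans ?_
    rw [← cj_comp, mul_inv_cancel]
    exact congrArg φ (Subtype.ext (by simp [cj]))⟩
  obtain ⟨⟨q, hqA, hqB⟩, -⟩ := P.exists_elations
  have hqK : (⟨_, P.Q_mem_N q⟩ : P.N) ∈ K := by
    intro d
    have hd := P.R_le_CV
    have hcz : (d : G) * z = z * d := (P.cent_V_iff.1 d.2).1
    have hmem : inG z Q q * d * (inG z Q q)⁻¹ * (d : G)⁻¹ ∈ Q.map (Subgroup.centralizer ({z} : Set G)).subtype := by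
      have h := mul_mem (FData.mem_map q) (D.good.norm _ hcz _ (inv_mem (FData.mem_map q)))
      rwa [show inG z Q q * ((d : G) * (inG z Q q)⁻¹ * (d : G)⁻¹) = inG z Q q * d * (inG z Q q)⁻¹ * (d : G)⁻¹ by
        group] at h
    have h1 : cj ⟨_, P.Q_mem_N q⟩ d * d⁻¹ ∈ P.Rs := by
      show P.ψ _ ∈ P.EA
      rw [(P.ψ_ker_iff _).2 hmem]
      exact one_mem _
    rw [← hker, MonoidHom.mem_ker, map_mul, map_inv, mul_inv_eq_one] at h1
    exact h1
  have hK : K.map P.σV = ⊤ := by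
    refine (Subgroup.Normal.eq_bot_or_eq_top (Subgroup.Normal.map hKn _ P.σV_surjective)).resolve_left fun h => ?_
    have h' : P.σV ⟨_, P.Q_mem_N q⟩ ∈ K.map P.σV := Subgroup.mem_map_of_mem _ hqK
    rw [h, Subgroup.mem_bot, P.σV_ker] at h'
    have h'' := (P.cent_V_iff.1 h').2.1
    rw [hqA] at h''
    exact D.good.x_ne (mul_eq_left.1 h'')
  have hex : ∀ l : P.N, ∃ s, ∀ d, φ (cj l d) = s * φ d * s⁻¹ := by
    intro l
    obtain ⟨k, hk, hkl⟩ : P.σV l ∈ K.map P.σV := hK ▸ Subgroup.mem_top _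
    have hc : ((k⁻¹ * l : P.N) : G) ∈ P.CV := (P.σV_ker _).1 (by rw [map_mul, map_inv, hkl, inv_mul_cancel])
    refine ⟨φ ⟨_, hc⟩, fun d => ?_⟩
    have e : cj (k⁻¹ * l) d = (⟨_, hc⟩ : P.CV) * d * (⟨_, hc⟩ : P.CV)⁻¹ := Subtype.ext rfl
    calc φ (cj l d) = φ (cj (k * (k⁻¹ * l)) d) := by rw [mul_inv_cancel_left]
      _ = _ := by rw [cj_comp, hk, e, map_mul, map_mul, map_inv]
  have huniq : ∀ s s' : alternatingGroup (Fin 6), (∀ d, s * φ d * s⁻¹ = s' * φ d * s'⁻¹) → s = s' := by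
    intro s s' h
    have hc : s'⁻¹ * s ∈ Subgroup.center (alternatingGroup (Fin 6)) := Subgroup.mem_center_iff.2 fun u => by
      obtain ⟨d, rfl⟩ := hφ u
      calc φ d * (s'⁻¹ * s) = s'⁻¹ * (s' * φ d * s'⁻¹) * s := by group
        _ = _ := by rw [← h]; group
    rcases Subgroup.Normal.eq_bot_or_eq_top (H := Subgroup.center (alternatingGroup (Fin 6))) inferInstance with e | e
    · rw [e, Subgroup.mem_bot] at hc
      exact (inv_mul_eq_one.1 hc).symm
    · exfalso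
      have hcm := Subgroup.mem_center_iff.1 (e ▸ Subgroup.mem_top _ :
        (⟨Equiv.swap 0 1 * Equiv.swap 1 2, Equiv.Perm.mem_alternatingGroup.2 (by decide)⟩ :
          alternatingGroup (Fin 6)) ∈ Subgroup.center _)
        ⟨Equiv.swap 0 1 * Equiv.swap 1 3, Equiv.Perm.mem_alternatingGroup.2 (by decide)⟩
      exact absurd (congrArg (fun p : alternatingGroup (Fin 6) => p.1 0) hcm) (by decide +kernel)
  choose ξ hξ using hex
  have ξmul : ∀ l m, ξ (l * m) = ξ l * ξ m := fun l m => huniq _ _ fun d => by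
    rw [← hξ, cj_comp, hξ, hξ]; group
  have ξCV : ∀ d : P.CV, ξ ⟨d, P.CV_le_N d.2⟩ = φ d := fun d => huniq _ _ fun e => by
    rw [← hξ, ← map_inv, ← map_mul, ← map_mul]
    rfl
  let Φ : P.N →* SL32 × alternatingGroup (Fin 6) := P.σV.prod (MonoidHom.mk' ξ ξmul)
  refine ⟨Φ, ?_, ?_⟩
  · rintro ⟨m, s⟩
    obtain ⟨l, rfl⟩ := P.σV_surjective m
    obtain ⟨d, hd⟩ := hφ ((ξ l)⁻¹ * s)
    refine ⟨l * ⟨d, P.CV_le_N d.2⟩, Prod.ext ?_ ?_⟩
    · show P.σV (l * ⟨d, P.CV_le_N d.2⟩) = P.σV l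
      rw [map_mul, (P.σV_ker ⟨d, P.CV_le_N d.2⟩).2 d.2, mul_one]
    · show ξ (l * _) = s
      rw [ξmul, ξCV, hd, mul_inv_cancel_left]
  · ext l
    rw [MonoidHom.mem_ker, Subgroup.mem_subgroupOf]
    constructor
    · intro h
      obtain ⟨h1, h2⟩ := Prod.ext_iff.1 h
      have hc := (P.σV_ker l).1 h1
      have h3 : φ ⟨(l : G), hc⟩ = 1 := (ξCV ⟨_, hc⟩).symm.trans h2
      exact ⟨⟨(l : G), hc⟩, hker ▸ MonoidHom.mem_ker.2 h3, rfl⟩
    · intro h
      have hc := P.R_le_CV h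
      obtain ⟨d, hd, he⟩ := h
      refine Prod.ext ((P.σV_ker l).2 hc) ?_
      show ξ l = 1
      have hd' : φ d = 1 := MonoidHom.mem_ker.1 (hker.symm ▸ hd)
      rw [← hd', ← ξCV d]
      exact congrArg ξ (Subtype.ext he.symm)

theorem pCore_eq : Cfsg.pCore 2 P.N = P.R.subgroupOf P.N := by
  haveI := MonsterType.Held.isSimpleGroup_SL32
  haveI := isSimpleGroup_alt6
  haveI : Fact (Nat.Prime 2) := ⟨Nat.prime_two⟩
  obtain ⟨Φ, hΦ, hker⟩ := P.exists_product
  refine le_antisymm (sSup_le fun S hS => ?_) (le_sSup ⟨P.R_normal, ?_⟩)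
  · haveI := hS.1
    rw [← hker]
    have h1 : (S.map ((MonoidHom.fst SL32 (alternatingGroup (Fin 6))).comp Φ)) = ⊥ := by
      refine (Subgroup.Normal.eq_bot_or_eq_top (Subgroup.Normal.map hS.1 _
        (fun m => (hΦ (m, 1)).imp fun l hl => by simp [hl]))).resolve_right fun h => ?_
      obtain ⟨n, hn⟩ := (IsPGroup.iff_card).1 (hS.2.map ((MonoidHom.fst SL32 (alternatingGroup (Fin 6))).comp Φ))
      rw [h, Subgroup.card_top, card_sl32] at hn
      exact absurd (Nat.prime_three.dvd_of_dvd_pow (hn ▸ (by norm_num) : 3 ∣ 2 ^ n)) (by norm_num)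
    have h2 : (S.map ((MonoidHom.snd SL32 (alternatingGroup (Fin 6))).comp Φ)) = ⊥ := by
      refine (Subgroup.Normal.eq_bot_or_eq_top (Subgroup.Normal.map hS.1 _
        (fun m => (hΦ (1, m)).imp fun l hl => by simp [hl]))).resolve_right fun h => ?_
      obtain ⟨n, hn⟩ := (IsPGroup.iff_card).1 (hS.2.map ((MonoidHom.snd SL32 (alternatingGroup (Fin 6))).comp Φ))
      rw [h, Subgroup.card_top, card_alt6] at hn
      exact absurd (Nat.prime_three.dvd_of_dvd_pow (hn ▸ (by norm_num) : 3 ∣ 2 ^ n)) (by norm_num)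
    intro l hl
    exact MonoidHom.mem_ker.2 (Prod.ext (MonoidHom.mem_ker.1 ((Subgroup.map_eq_bot_iff S).1 h1 hl))
      (MonoidHom.mem_ker.1 ((Subgroup.map_eq_bot_iff S).1 h2 hl)))
  · exact (IsPGroup.of_card P.card_R).of_equiv
      (Subgroup.subgroupOfEquivOfLe (fun c hc => P.CV_le_N (P.R_le_CV hc))).symm

theorem R_commutator_le {c d : G} (hc : c ∈ P.R) (hd : d ∈ P.R) : c * d * c⁻¹ * d⁻¹ ∈ P.V ∧ c * c ∈ P.V := by
  obtain ⟨q, t, hq, ht, rfl⟩ := P.R_decomp hc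
  obtain ⟨q', t', hq', ht', rfl⟩ := P.R_decomp hd
  -- modulo the central subgroup `V`
  let VR : Subgroup P.CV := P.V.subgroupOf P.CV
  haveI : VR.Normal := ⟨fun v hv u => by
    have hv' : (v : G) ∈ P.V := hv
    show ((u * v * u⁻¹ : P.CV) : G) ∈ P.V
    rw [Subgroup.coe_mul, Subgroup.coe_mul, Subgroup.coe_inv,
      mul_inv_eq_iff_eq_mul.2 (Subgroup.mem_centralizer_iff.1 u.2 _ hv').symm]
    exact hv'⟩
  let π := QuotientGroup.mk' VR
  let Q1 : P.CV := ⟨inG z Q q, hq⟩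
  let Q2 : P.CV := ⟨inG z Q q', hq'⟩
  let T1 : P.CV := ⟨t, P.T_mem_CV ht⟩
  let T2 : P.CV := ⟨t', P.T_mem_CV ht'⟩
  have hone : ∀ u : P.CV, (u : G) ∈ P.V → π u = 1 := fun u hu => (QuotientGroup.eq_one_iff u).2 hu
  have hcm : ∀ u v : P.CV, (u : G) * v * (u : G)⁻¹ * (v : G)⁻¹ ∈ P.V → Commute (π u) (π v) := fun u v h => by
    have h' := hone (u * v * u⁻¹ * v⁻¹) h
    rw [map_mul, map_mul, map_mul, map_inv, map_inv] at h'
    exact mul_inv_eq_iff_eq_mul.1 (mul_inv_eq_one.1 h')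
  have hqq : ∀ u v : Q, inG z Q u * inG z Q v * (inG z Q u)⁻¹ * (inG z Q v)⁻¹ ∈ P.V := fun u v => by
    rcases D.good.comm _ (FData.mem_map u) _ (FData.mem_map v) with e | e <;> rw [e]
    · simpa using one_mem _
    · rw [D.good.le_cent _ (FData.mem_map v), mul_inv_cancel_right]; exact P.z_mem_V
  have htt : t * t' * t⁻¹ * t'⁻¹ ∈ P.V := by
    rw [P.T_comm ht ht']; simpa [mul_assoc] using one_mem _
  have h11 := hcm Q1 Q2 (hqq q q')
  have h12 := hcm Q1 T2 (P.commutator_T_Q hq ht')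
  have h21 := (hcm Q2 T1 (P.commutator_T_Q hq' ht)).symm
  have h22 := hcm T1 T2 htt
  have hqt := hcm Q1 T1 (P.commutator_T_Q hq ht)
  refine ⟨?_, ?_⟩
  · have hC : Commute (π (Q1 * T1)) (π (Q2 * T2)) := by
      rw [map_mul, map_mul]
      exact (h11.mul_right h12).mul_left (h21.mul_right h22)
    have e : π (Q1 * T1 * (Q2 * T2) * (Q1 * T1)⁻¹ * (Q2 * T2)⁻¹) = 1 := by
      rw [map_mul, map_mul, map_mul, map_inv, map_inv, hC.eq, mul_inv_cancel_right, mul_inv_cancel]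
    exact (QuotientGroup.eq_one_iff (Q1 * T1 * (Q2 * T2) * (Q1 * T1)⁻¹ * (Q2 * T2)⁻¹)).1 e
  · have e : π (Q1 * T1 * (Q1 * T1)) = 1 := by
      rw [map_mul, map_mul, hqt.symm.mul_mul_mul_comm, ← map_mul π Q1 Q1, ← map_mul π T1 T1, hone (Q1 * Q1) ?_,
        hone (T1 * T1) ?_, mul_one]
      · show t * t ∈ P.V
        rw [P.T_sq ht]; exact one_mem _
      · show inG z Q q * inG z Q q ∈ P.V
        rcases D.good.sq_cases (FData.mem_map q) with r | r <;> rw [r]
        exacts [one_mem _, P.z_mem_V]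
    exact (QuotientGroup.eq_one_iff (Q1 * T1 * (Q1 * T1))).1 e

theorem V_le_commutator : P.V ≤ ⁅P.R, P.R⁆ := by
  obtain ⟨h1, h2, h3⟩ := noncommuting_pairs
  obtain ⟨u, hu⟩ := FD.exists_vec D (pairW 0 1 (1, 0))
  obtain ⟨w, hw⟩ := FD.exists_vec D (pairW 0 2 (0, 1))
  have huR := P.qQ_mem_R ((P.nz_sum_iff u).2 (by rw [hu]; exact h2))
  have hwR := P.qQ_mem_R ((P.nz_sum_iff w).2 (by rw [hw]; exact h3))
  have hz : z ∈ ⁅P.R, P.R⁆ := by
    have h := Subgroup.commutator_mem_commutator huR hwR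
    have e : inG z Q u * inG z Q w * (inG z Q u)⁻¹ = inG z Q w * z := by
      refine (D.good.comm _ (FData.mem_map u) _ (FData.mem_map w)).resolve_left fun e => h1 ?_
      have h' := (FD.commute_iff_wt D u w).1 (mul_inv_eq_iff_eq_mul.1 e)
      rwa [hu, hw] at h'
    rwa [commutatorElement_def, e, D.good.le_cent _ (FData.mem_map w), mul_inv_cancel_right] at h
  have hconj : ∀ l : P.N, ∀ v ∈ ⁅P.R, P.R⁆, (l : G) * v * (l : G)⁻¹ ∈ ⁅P.R, P.R⁆ := by
    intro l v hv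
    have hle : ⁅P.R, P.R⁆ ≤ (⁅P.R, P.R⁆).comap (MulAut.conj (l : G)).toMonoidHom := Subgroup.commutator_le.2
      fun c hc d hd => by
        show (MulAut.conj (l : G)).toMonoidHom ⁅c, d⁆ ∈ ⁅P.R, P.R⁆
        rw [commutatorElement_def, map_mul, map_mul, map_mul, map_inv, map_inv, ← commutatorElement_def]
        exact Subgroup.commutator_mem_commutator (P.conj_R l hc) (P.conj_R l hd)
    exact hle hv
  obtain ⟨g, hg1, -⟩ := P.exists_swap_N
  have hA : P.A ∈ ⁅P.R, P.R⁆ := hg1 ▸ hconj g z hz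
  have hB : P.B ∈ ⁅P.R, P.R⁆ := hconj ⟨_, P.x_mem_N⟩ P.A hA
  intro v hv
  obtain ⟨u, hu⟩ := P.eV_bijective.2 ⟨v, hv⟩
  rw [← show P.eV u = v from congrArg Subtype.val hu]
  exact mul_mem (mul_mem (pow_mem hz _) (pow_mem hA _)) (pow_mem hB _)

theorem R_special : Cfsg.IsSpecial 2 P.R ∧ (Subgroup.center P.R).map P.R.subtype = P.V := by
  haveI : Fact (Nat.Prime 2) := ⟨Nat.prime_two⟩
  have hp : IsPGroup 2 P.R := IsPGroup.of_card P.card_R
  have hcen : Subgroup.center P.R = P.V.subgroupOf P.R := by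
    ext c
    rw [Subgroup.mem_center_iff, Subgroup.mem_subgroupOf]
    refine ⟨fun h => P.center_R c.2 fun d hd => (congrArg Subtype.val (h ⟨d, hd⟩)).symm, fun h d => ?_⟩
    exact Subtype.ext (Subgroup.mem_centralizer_iff.1 (P.R_le_CV d.2) _ h).symm
  have hcomm : commutator P.R = P.V.subgroupOf P.R := by
    refine le_antisymm ?_ ?_
    · rw [commutator_def, Subgroup.commutator_le]
      intro c _ d _
      rw [Subgroup.mem_subgroupOf, commutatorElement_def]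
      exact (P.R_commutator_le c.2 d.2).1
    · intro c hc
      have h : (c : G) ∈ (commutator P.R).map P.R.subtype := by
        rw [Subgroup.map_subtype_commutator]; exact P.V_le_commutator hc
      obtain ⟨c', hc', e⟩ := h
      rwa [← Subtype.ext e]
  refine ⟨⟨hp, ?_, hcomm.trans hcen.symm⟩, ?_⟩
  · rw [hcen]
    refine le_antisymm (PFrattini.frattini_le (p := 2) hcomm.le fun c => ?_) (hcomm ▸ PFrattini.commutator_le_frattini hp)
    rw [Subgroup.mem_subgroupOf, pow_two]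
    exact (P.R_commutator_le c.2 c.2).2
  · rw [hcen, Subgroup.map_subgroupOf_eq_of_le P.V_le_R]

end Triple

end Cfsg.Agent.Lib.LargeFischerCover95
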