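import Mathlib
import Cfsg.Agent.Lib.LargeFischerCover95.Cover
import Cfsg.Prelude.Def_CaseTheorems

/-!
The centraliser of `x` is quasisimple, a six-fold cover of the unitary group.
-/

set_option autoImplicit false

namespace Cfsg.Agent.Lib.LargeFischerCover95

open Cfsg.Agent.Lib
open Cfsg.Agent.Lib.FischerType

theorem dg_shift : ∀ i : Fin 6,
    (![0, 2, 1, 0, 2, 1] : Fin 6 → ZMod 3) ((Equiv.swap 0 1 * Equiv.swap 1 2 * (Equiv.swap 3 4 * Equiv.swap 4 5) :
      Equiv.Perm (Fin 6)).symm i) - (![0, 2, 1, 0, 2, 1] : Fin 6 → ZMod 3) i = 1 := by decide +kernel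

theorem pwK_one : ∀ p : K4, pwK 1 p = nuK p := by decide +kernel

variable {G : Type*} [Group G] [Finite G] {z : G} {Q : Subgroup (Subgroup.centralizer ({z} : Set G))} [Q.Normal]

theorem commutator_M (D : FData z Q) {k : Fin 5} (B : Base D k) (hF : Cfsg.IsOfLargeFischerTypeAt z Q) :
    ⁅D.S.M, D.S.M⁆ = D.S.M := by
  haveI : Finite (Additive (Abelianization Q)) := Finite.of_equiv _ D.coord.Ψ.toEquiv
  haveI : IsSimpleGroup U43 := Classical.isSimpleGroup_PSU hNine 2 (by norm_num) (by norm_num)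
  haveI := D.S.M_normal
  refine le_antisymm (Subgroup.commutator_le_left _ _) ?_
  -- the central element is a commutator
  obtain ⟨a, ha⟩ := FD.exists_vec D ones
  obtain ⟨g, hg⟩ := exists_conj B hF ha
  set σ : Equiv.Perm (Fin 6) := Equiv.swap 0 1 * Equiv.swap 1 2 * (Equiv.swap 3 4 * Equiv.swap 4 5) with hσd
  have hσ : Equiv.Perm.sign σ = 1 := by rw [hσd]; decide +kernel
  obtain ⟨c, hcM, -, hact⟩ := exists_perm_lift hg ha σ hσ
  set u : Subgroup.centralizer ({z} : Set G) ⧸ Q := QuotientGroup.mk c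
  obtain ⟨d, hdM, hd⟩ := D.coord.diag ![0, 2, 1, 0, 2, 1] (by decide +kernel)
  have hn : u * d * u⁻¹ = D.S.n * d := by
    rw [mul_inv_eq_iff_eq_mul]
    refine inv_mul_eq_one.1 (D.S.faithful _ fun y => ?_)
    obtain ⟨w, rfl⟩ := D.coord.Ψ.surjective y
    rw [mul_smul, inv_smul_eq_iff]
    have hu : ∀ v, u • D.coord.Ψ v = D.coord.Ψ fun m => v (σ.symm m) := fun v => by
      rw [← hact, Setting.Coord.act, AddEquiv.apply_symm_apply]
    rw [mul_smul, mul_smul, mul_smul, hd, hu, hu, hd, ← D.coord.nu]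
    refine congrArg _ (funext fun i => ?_)
    show nuK (pwK _ _) = pwK _ _
    rw [← pwK_one, ← pwK_add]
    exact congrArg (fun t => pwK t (w (σ.symm i))) (sub_eq_iff_eq_add.1 (dg_shift i)).symm
  have hnM : D.S.n ∈ ⁅D.S.M, D.S.M⁆ := by
    have h := Subgroup.commutator_mem_commutator hcM hdM
    rw [commutatorElement_def, hn, mul_inv_cancel_right] at h
    exact h
  intro m hm
  have htop : Subgroup.map D.S.θ (commutator D.S.M) = ⊤ := by
    rw [commutator_def, Subgroup.map_commutator, Subgroup.map_top_of_surjective _ D.S.θ_surj]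
    refine (Subgroup.Normal.eq_bot_or_eq_top inferInstance).resolve_left fun h => ?_
    have hc : ∀ p q : U43, p * q = q * p := fun p q => by
      have h1 := Subgroup.commutator_mem_commutator (Subgroup.mem_top p) (Subgroup.mem_top q)
      rw [h, Subgroup.mem_bot] at h1
      exact commutatorElement_eq_one_iff_mul_comm.1 h1
    have h2 : eP 0 ∈ Subgroup.center U43 := Subgroup.mem_center_iff.2 fun v => hc v _
    rw [center_U43, Subgroup.mem_bot] at h2
    have h3 : tauP (Pi.single 0 1) = 1 := by rw [Setting.tauP_single]; exact h2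
    have h4 := congrFun (tauP_eq_one _ h3) 0
    rw [Pi.single_eq_same, Pi.zero_apply] at h4
    exact one_ne_zero h4
  obtain ⟨m', hm', he⟩ : D.S.θ ⟨m, hm⟩ ∈ Subgroup.map D.S.θ (commutator D.S.M) := htop ▸ Subgroup.mem_top _
  obtain ⟨i, hi⟩ := D.S.eq_np_mul he.symm
  change m = _ at hi
  rw [hi]
  refine mul_mem (pow_mem hnM _) ?_
  rw [← Subgroup.map_subtype_commutator]
  exact Subgroup.mem_map_of_mem _ hm'

/-- The centraliser is quasisimple with centre of order six. -/
theorem cover (hF : Cfsg.IsOfLargeFischerTypeAt z Q) (X : Subgroup (Subgroup.centralizer ({z} : Set G)))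
    (hX : Nat.card X = 3) (hXQ : (X ⊔ Q).Normal) :
    Cfsg.IsQuasisimple ↥(Subgroup.centralizer (X : Set (Subgroup.centralizer ({z} : Set G)))) ∧
      IsCyclic ↥(Subgroup.center ↥(Subgroup.centralizer (X : Set (Subgroup.centralizer ({z} : Set G))))) ∧
      Nat.card ↥(Subgroup.center ↥(Subgroup.centralizer (X : Set (Subgroup.centralizer ({z} : Set G))))) = 6 ∧
      Nonempty (↥(Subgroup.centralizer (X : Set (Subgroup.centralizer ({z} : Set G)))) ⧸
        Subgroup.center ↥(Subgroup.centralizer (X : Set (Subgroup.centralizer ({z} : Set G)))) ≃* U43) := by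
  classical
  obtain ⟨D, k, B⟩ := exists_base hF
  obtain ⟨x, hord, hXx, hxn⟩ := exists_gen D X hX hXQ
  obtain ⟨P, hPx⟩ := exists_triple B hF hord hxn
  have hzc := P.z_mem_commutator
  rw [hPx] at hzc
  have hCX : Subgroup.centralizer (X : Set (Subgroup.centralizer ({z} : Set G))) =
      Subgroup.centralizer ({x} : Set (Subgroup.centralizer ({z} : Set G))) := by
    rw [hXx]
    ext c
    rw [Subgroup.mem_centralizer_iff, Subgroup.mem_centralizer_singleton_iff]
    constructor
    · exact fun h => (h x (Subgroup.mem_zpowers x)).symm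
    · rintro h _ ⟨i, rfl⟩
      exact (Commute.zpow_left (Commute.symm h) i).eq
  rw [hCX]
  set zH : Subgroup.centralizer ({z} : Set G) := ⟨z, Subgroup.mem_centralizer_singleton_iff.2 rfl⟩ with hzH
  set C := Subgroup.centralizer ({x} : Set (Subgroup.centralizer ({z} : Set G))) with hC
  haveI : IsSimpleGroup U43 := Classical.isSimpleGroup_PSU hNine 2 (by norm_num) (by norm_num)
  have hzcomm : ∀ h : Subgroup.centralizer ({z} : Set G), h * zH = zH * h := fun h =>
    Subtype.ext (Subgroup.mem_centralizer_singleton_iff.1 h.2)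
  have hzC : zH ∈ C := Subgroup.mem_centralizer_singleton_iff.2 (hzcomm x).symm
  have hxC : x ∈ C := Subgroup.mem_centralizer_singleton_iff.2 rfl
  have hzQ : zH ∈ Q := (mem_map_iff zH).1 D.good.x_mem
  have hM : ∀ c ∈ C, (QuotientGroup.mk c : Subgroup.centralizer ({z} : Set G) ⧸ Q) ∈ D.S.M := by
    intro c hc
    refine (D.commute_iff hF _).1 ?_
    rw [← hxn, ← QuotientGroup.mk_mul, ← QuotientGroup.mk_mul, Subgroup.mem_centralizer_singleton_iff.1 hc]
  have hker : ∀ c ∈ C, c ∈ Q → c = 1 ∨ c = zH := by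
    intro c hc hcQ
    rcases fixed_gen hxn ⟨c, hcQ⟩ (Subgroup.mem_centralizer_singleton_iff.1 hc).symm with e | e
    · exact Or.inl (Subtype.ext e)
    · exact Or.inr (Subtype.ext e)
  have hmap : C.map (QuotientGroup.mk' Q) = D.S.M := by
    refine le_antisymm ?_ fun m hm => ?_
    · rintro _ ⟨c, hc, rfl⟩
      exact hM c hc
    · obtain ⟨c, rfl⟩ := QuotientGroup.mk_surjective m
      obtain ⟨q, hq⟩ := exists_cent_lift hord hxn hm
      refine ⟨q.1 * c, Subgroup.mem_centralizer_singleton_iff.2 hq, ?_⟩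
      rw [QuotientGroup.mk'_apply, QuotientGroup.mk_mul, (QuotientGroup.eq_one_iff q.1).2 q.2, one_mul]
  have hCC : ⁅C, C⁆ ≤ C := Subgroup.commutator_le.2 fun p hp q hq => by
    rw [commutatorElement_def]
    exact mul_mem (mul_mem (mul_mem hp hq) (inv_mem hp)) (inv_mem hq)
  have hperf : ⁅C, C⁆ = C := by
    refine le_antisymm hCC fun c hc => ?_
    have h : (QuotientGroup.mk' Q c) ∈ (⁅C, C⁆).map (QuotientGroup.mk' Q) := by
      rw [Subgroup.map_commutator, hmap, commutator_M D B hF]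
      exact hM c hc
    obtain ⟨c', hc', he⟩ := h
    have hq : c'⁻¹ * c ∈ Q := QuotientGroup.eq.1 he
    have e : c = c' * (c'⁻¹ * c) := by group
    rcases hker _ (mul_mem (inv_mem (hCC hc')) hc) hq with r | r <;> rw [e, r]
    · rwa [mul_one]
    · exact mul_mem hc' hzc
  let ρ : C →* D.S.M :=
    { toFun := fun c => ⟨QuotientGroup.mk (c : Subgroup.centralizer ({z} : Set G)), hM c c.2⟩
      map_one' := Subtype.ext rfl
      map_mul' := fun _ _ => Subtype.ext rfl }
  let Φ : C →* U43 := D.S.θ.comp ρ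
  have hΦs : Function.Surjective Φ := by
    intro u
    obtain ⟨⟨m, hm⟩, rfl⟩ := D.S.θ_surj u
    obtain ⟨c, hc, rfl⟩ := (hmap ▸ hm : m ∈ C.map (QuotientGroup.mk' Q))
    exact ⟨⟨c, hc⟩, rfl⟩
  set y : C := ⟨x * zH, mul_mem hxC hzC⟩ with hy
  have hx3 : x ^ 3 = 1 := by rw [← hord, pow_orderOf_eq_one]
  have hz2 : zH ^ 2 = 1 := by rw [pow_two]; exact Subtype.ext D.good.x_sq
  have hzord : orderOf zH = 2 := orderOf_eq_prime hz2 fun e => D.good.x_ne (congrArg Subtype.val e)
  have hyord : orderOf y = 6 := by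
    rw [hy, Subgroup.orderOf_mk, Commute.orderOf_mul_eq_mul_orderOf_of_coprime (hzcomm x)
      (by rw [hord, hzord]; norm_num), hord, hzord]
  have hgen : (⟨x, hxC⟩ : C) ∈ Subgroup.zpowers y ∧ (⟨zH, hzC⟩ : C) ∈ Subgroup.zpowers y := by
    have hcm : Commute x zH := hzcomm x
    have e3 : y ^ 3 = ⟨zH, hzC⟩ := Subtype.ext (by
      show (x * zH) ^ 3 = zH
      rw [hcm.mul_pow, hx3, one_mul, pow_succ, hz2, one_mul])
    have e4 : y ^ 4 = ⟨x, hxC⟩ := Subtype.ext (by
      show (x * zH) ^ 4 = x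
      rw [hcm.mul_pow, pow_succ, hx3, one_mul, show zH ^ 4 = (zH ^ 2) ^ 2 by rw [← pow_mul], hz2, one_pow, mul_one])
    exact ⟨e4 ▸ pow_mem (Subgroup.mem_zpowers y) _, e3 ▸ pow_mem (Subgroup.mem_zpowers y) _⟩
  have hkerΦ : Φ.ker = Subgroup.zpowers y := by
    refine le_antisymm (fun c hc => ?_) (Subgroup.zpowers_le.2 ?_)
    · obtain ⟨i, hi⟩ := D.S.exists_np (MonoidHom.mem_ker.1 hc : D.S.θ (ρ c) = 1)
      change (QuotientGroup.mk (c : Subgroup.centralizer ({z} : Set G)) : _) = _ at hi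
      rw [Setting.np, ← hxn, ← QuotientGroup.mk_pow] at hi
      have hq := QuotientGroup.eq.1 hi.symm
      have hc' : (x ^ i.val)⁻¹ * (c : Subgroup.centralizer ({z} : Set G)) ∈ C :=
        mul_mem (inv_mem (pow_mem hxC _)) c.2
      have e : c = (⟨x, hxC⟩ : C) ^ i.val * ⟨(x ^ i.val)⁻¹ * c, hc'⟩ := Subtype.ext (by simp)
      rw [e]
      refine mul_mem (pow_mem hgen.1 _) ?_
      rcases hker _ hc' hq with r | r
      · have : (⟨_, hc'⟩ : C) = 1 := Subtype.ext r
        rw [this]; exact one_mem _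
      · have : (⟨_, hc'⟩ : C) = ⟨zH, hzC⟩ := Subtype.ext r
        rw [this]; exact hgen.2
    · refine MonoidHom.mem_ker.2 ((D.S.θ_ker _).2 ?_)
      show (QuotientGroup.mk (x * zH) : Subgroup.centralizer ({z} : Set G) ⧸ Q) ∈ _
      rw [QuotientGroup.mk_mul, (QuotientGroup.eq_one_iff zH).2 hzQ, mul_one, hxn]
      exact Subgroup.mem_zpowers _
  have hcenter : Subgroup.center C = Subgroup.zpowers y := by
    refine le_antisymm ?_ (Subgroup.zpowers_le.2 (Subgroup.mem_center_iff.2 fun c => Subtype.ext ?_))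
    · rw [← hkerΦ]
      intro c hc
      refine MonoidHom.mem_ker.2 ?_
      have h : Φ c ∈ Subgroup.center U43 := Subgroup.mem_center_iff.2 fun u => by
        obtain ⟨d, rfl⟩ := hΦs u
        rw [← map_mul, ← map_mul, Subgroup.mem_center_iff.1 hc d]
      rwa [center_U43, Subgroup.mem_bot] at h
    · show (c : Subgroup.centralizer ({z} : Set G)) * (x * zH) = x * zH * c
      rw [← mul_assoc, Subgroup.mem_centralizer_singleton_iff.1 c.2, mul_assoc, hzcomm, mul_assoc]
  let E : C ⧸ Subgroup.center C ≃* U43 :=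
    (QuotientGroup.quotientMulEquivOfEq (hcenter.trans hkerΦ.symm)).trans
      (QuotientGroup.quotientKerEquivOfSurjective Φ hΦs)
  refine ⟨⟨?_, ?_⟩, ?_, ?_, ⟨E⟩⟩
  · refine ⟨Subgroup.map_injective C.subtype_injective ?_⟩
    rw [Subgroup.map_subtype_commutator, hperf, ← MonoidHom.range_eq_map, Subgroup.range_subtype]
  · haveI : Nontrivial (C ⧸ Subgroup.center C) := E.toEquiv.nontrivial
    exact IsSimpleGroup.isSimpleGroup_of_surjective E.symm.toMonoidHom E.symm.surjective
  · rw [hcenter]; infer_instance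
  · rw [hcenter, Nat.card_zpowers, hyord]

end Cfsg.Agent.Lib.LargeFischerCover95
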